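import Groth.Agent.SegreDim.Module
import Groth.Agent.DepthLib.CMModule
import Mathlib.RingTheory.Ideal.AssociatedPrime.Localization

/-! Dimension bounds and Cohen–Macaulay graded modules. -/

namespace Groth.Agent.SegreDim

open DirectSum MvPolynomial

universe u

theorem length_le_supportDim {R M : Type u} [CommRing R] [AddCommGroup M] [Module R M]
    [Module.Finite R M] (l : LTSeries (PrimeSpectrum R))
    (h : Module.annihilator R M ≤ l.head.asIdeal) :
    (l.length : WithBot ℕ∞) ≤ Module.supportDim R M := by
  have hmem : ∀ i, l i ∈ Module.support R M := fun i => by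
    rw [Module.support_eq_zeroLocus, PrimeSpectrum.mem_zeroLocus]
    exact fun x hx => (l.head_le i) (h hx)
  exact Order.LTSeries.length_le_krullDim
    (α := Module.support R M) ⟨l.length, fun i => ⟨l i, hmem i⟩, fun i => l.step i⟩

theorem length_le_supportDim_localized {R M : Type u} [CommRing R] [AddCommGroup M] [Module R M]
    [Module.Finite R M] (Q : Ideal R) [Q.IsPrime] (l : LTSeries (PrimeSpectrum R))
    (h : Module.annihilator R M ≤ l.head.asIdeal) (hQ : l.last.asIdeal ≤ Q) :
    (l.length : WithBot ℕ∞) ≤
      Module.supportDim (Localization.AtPrime Q) (LocalizedModule Q.primeCompl M) := by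
  classical
  set RQ := Localization.AtPrime Q
  set MQ := LocalizedModule Q.primeCompl M
  have hle : ∀ i, (l i).asIdeal ≤ Q := fun i =>
    le_trans (show (l i).asIdeal ≤ l.last.asIdeal from l.monotone (Fin.le_last i)) hQ
  have hdisj : ∀ i, Disjoint (Q.primeCompl : Set R) ((l i).asIdeal : Set R) := fun i =>
    Set.disjoint_left.2 fun a ha ha' => ha (hle i ha')
  let L : Fin (l.length + 1) → PrimeSpectrum RQ := fun i =>
    ⟨(l i).asIdeal.map (algebraMap R RQ),
      IsLocalization.isPrime_of_isPrime_disjoint Q.primeCompl RQ _ (l i).isPrime (hdisj i)⟩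
  have hcomap : ∀ i, (L i).asIdeal.comap (algebraMap R RQ) = (l i).asIdeal := fun i =>
    IsLocalization.under_map_of_isPrime_disjoint Q.primeCompl RQ (l i).isPrime (hdisj i)
  have : Module.Finite RQ MQ := Module.Finite.of_isLocalizedModule Q.primeCompl
    (LocalizedModule.mkLinearMap Q.primeCompl M)
  have hmem : ∀ i, L i ∈ Module.support RQ MQ := fun i => by
    rw [Module.support_eq_zeroLocus, PrimeSpectrum.mem_zeroLocus]
    intro x hx
    obtain ⟨a, s, rfl⟩ := IsLocalization.exists_mk'_eq Q.primeCompl x
    have ha : ∀ m : M, ∃ u : Q.primeCompl, (u : R) • a • m = 0 := by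
      intro m
      have h1 := Module.mem_annihilator.1 hx (LocalizedModule.mkLinearMap Q.primeCompl M m)
      rw [← IsLocalizedModule.mk'_one Q.primeCompl (LocalizedModule.mkLinearMap Q.primeCompl M),
        IsLocalizedModule.mk'_smul_mk', IsLocalizedModule.mk'_eq_zero'] at h1
      obtain ⟨u, hu⟩ := h1
      exact ⟨u, hu⟩
    obtain ⟨Y, hY⟩ := Module.finite_def.1 (inferInstance : Module.Finite R M)
    choose u hu using ha
    set U : R := ∏ m ∈ Y, (u m : R)
    have hUQ : U ∉ Q := (∏ m ∈ Y, u m).2 |> fun h => by simpa [U] using h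
    have hann : U * a ∈ Module.annihilator R M := by
      rw [Module.mem_annihilator]
      intro m
      have hm : m ∈ Submodule.span R (Y : Set M) := hY ▸ Submodule.mem_top
      induction hm using Submodule.span_induction with
      | mem y hy =>
        obtain ⟨c, hc⟩ : (u y : R) ∣ U := Finset.dvd_prod_of_mem (fun m => (u m : R)) hy
        rw [hc, mul_smul, mul_comm, mul_smul, hu, smul_zero]
      | zero => rw [smul_zero]
      | add p q _ _ hp hq => rw [smul_add, hp, hq, add_zero]
      | smul c p _ hp => rw [smul_comm, hp, smul_zero]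
    have : a ∈ (l i).asIdeal :=
      ((l i).isPrime.mem_or_mem ((l.head_le i) (h hann))).resolve_left fun hU => hUQ (hle i hU)
    rw [IsLocalization.mk'_eq_mul_mk'_one]
    exact Ideal.mul_mem_right _ _ (Ideal.mem_map_of_mem _ this)
  refine Order.LTSeries.length_le_krullDim (α := Module.support RQ MQ)
    ⟨l.length, fun i => ⟨L i, hmem i⟩, fun i => ?_⟩
  have hs : l i.castSucc < l i.succ := l.step i
  refine lt_of_le_of_ne (Ideal.map_mono hs.le) fun he => hs.ne ?_
  apply PrimeSpectrum.ext
  rw [← hcomap, ← hcomap]
  exact congrArg (fun z : Ideal RQ => z.comap (algebraMap R RQ)) he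

variable {k : Type u} [Field k] {R : Type u} [CommRing R] [Algebra k R]
  {𝒜 : ℤ → Submodule k R} [GradedAlgebra 𝒜]
  {M : Type u} [AddCommGroup M] [Module R M] [Module k M] [IsScalarTower k R M]
  {ℳ : ℤ → AddSubgroup M} [DirectSum.Decomposition ℳ] [SetLike.GradedSMul 𝒜 ℳ]

/-- In a Cohen–Macaulay module nonzero homogeneous elements are torsion free over parameters. -/
theorem nonTors_of_cohenMacaulay [Algebra.FiniteType k R] [Module.Finite R M] (hA : IsStd 𝒜)
    {r : ℕ} (hdimM : Module.supportDim R M = (r : WithBot ℕ∞))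
    (hcm : ∀ (q : Ideal R) [q.IsPrime], Subsingleton (LocalizedModule q.primeCompl M) ∨
      LocCoh.IsCohenMacaulayModule (Localization.AtPrime q) (LocalizedModule q.primeCompl M))
    {f : Fin r → R} {X : Finset M} (hX : Spans k R M f X)
    {n : ℤ} {x : M} (hx : x ∈ ℳ n) (hx0 : x ≠ 0) : NonTors k f x := by
  classical
  have hR : IsNoetherianRing R := Algebra.FiniteType.isNoetherianRing k R
  have : Nontrivial R := by
    by_contra h
    rw [not_nontrivial_iff_subsingleton] at h
    exact hx0 ((Module.subsingleton R M).elim x 0)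
  intro p hp
  by_contra hp0
  let P := MvPolynomial (Fin r) k
  let _ : Algebra P R := (aeval (R := k) f).toRingHom.toAlgebra
  let _ : Module P M := Module.compHom M (algebraMap P R)
  have : IsScalarTower P R M := ⟨fun p a x => by rw [Algebra.smul_def, mul_smul]; rfl⟩
  have hsm : ∀ (p : P) (x : M), p • x = aeval (R := k) f p • x := fun _ _ => rfl
  have hfinP : Module.Finite P M := by
    refine ⟨⟨X, ?_⟩⟩
    rw [eq_top_iff]
    rintro y -
    have hy : y ∈ Submodule.span k _ := hX ▸ (Submodule.mem_top : y ∈ ⊤)
    induction hy using Submodule.span_induction with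
    | mem y hy =>
      obtain ⟨a, x, hx, rfl⟩ := hy
      rw [show (∏ i, f i ^ a i) • x = (∏ i, (MvPolynomial.X i : P) ^ a i) • x by rw [hsm]; simp [P]]
      exact Submodule.smul_mem _ _ (Submodule.subset_span hx)
    | zero => exact zero_mem _
    | add a b _ _ ha hb => exact add_mem ha hb
    | smul c y _ hy =>
      rw [show c • y = (C c : P) • y by rw [hsm]; simp [P]]
      exact Submodule.smul_mem _ _ hy
  set N : Submodule R M := Submodule.span R {x}
  have hfinN : Module.Finite P N :=
    Module.Finite.of_injective (N.subtype.restrictScalars P) N.injective_subtype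
  have hpN : p ∈ Module.annihilator P N := by
    rw [Module.mem_annihilator]
    rintro ⟨y, hy⟩
    obtain ⟨a, rfl⟩ := Submodule.mem_span_singleton.1 hy
    refine Subtype.ext ?_
    show p • a • x = 0
    rw [hsm, smul_comm, hp, smul_zero]
  have hlt : Module.supportDim R N < (r : WithBot ℕ∞) := by
    rw [supportDim_eq_of_finite (A := P) (T := R) (P := N)]
    have h2 := ringKrullDim_succ_le_of_surjective (Ideal.Quotient.mk (Module.annihilator P N))
      Ideal.Quotient.mk_surjective (r := p) (mem_nonZeroDivisors_of_ne_zero hp0)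
      (Ideal.Quotient.eq_zero_iff_mem.2 hpN)
    have hdimP : ringKrullDim P = (r : WithBot ℕ∞) := by
      simp [P, MvPolynomial.ringKrullDim_of_isNoetherianRing, ringKrullDim_eq_zero_of_field]
    rw [hdimP] at h2
    generalize ringKrullDim (P ⧸ Module.annihilator P N) = a at h2 ⊢
    induction a with
    | bot => exact WithBot.bot_lt_coe _
    | coe a =>
      induction a with
      | top =>
        have h3 : ((⊤ : ℕ∞) + 1 : ℕ∞) ≤ (r : ℕ∞) := WithBot.coe_le_coe.1 h2
        rw [top_add, top_le_iff] at h3
        exact absurd h3 (ENat.natCast_ne_top r)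
      | coe a => norm_cast at h2 ⊢
  -- an associated prime in `Supp N`
  set I := Module.annihilator R N
  have hI : I.IsHomogeneous 𝒜 := by
    intro i a ha
    rw [Module.mem_annihilator] at ha ⊢
    rintro ⟨y, hy⟩
    obtain ⟨c, rfl⟩ := Submodule.mem_span_singleton.1 hy
    refine Subtype.ext ?_
    show (decompose 𝒜 a i : R) • c • x = 0
    have h0 : a • x = 0 := congrArg Subtype.val (ha ⟨x, Submodule.mem_span_singleton_self x⟩)
    have h1 := proj_smul_right (𝒜 := 𝒜) a hx (i + n)
    rw [h0, decompose_zero, show i + n - n = i by ring] at h1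
    rw [smul_comm, ← h1]
    simp
  have : Nontrivial N := ⟨⟨x, Submodule.mem_span_singleton_self x⟩, 0, fun h => hx0 (congrArg Subtype.val h)⟩
  obtain ⟨q, hq⟩ := Ideal.nonempty_minimalPrimes (I := I) fun h => by
    have h1 : (1 : R) ∈ I := h ▸ Submodule.mem_top
    rw [Module.mem_annihilator] at h1
    exact hx0 (by simpa using congrArg Subtype.val (h1 ⟨x, Submodule.mem_span_singleton_self x⟩))
  have hqass : q ∈ associatedPrimes R M :=
    associatedPrimes.subset_of_injective N.injective_subtype
      (Module.associatedPrimes.minimalPrimes_annihilator_subset_associatedPrimes R N hq)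
  have : q.IsPrime := hq.1.1
  have hqpos : q ≤ pos 𝒜 := hA.le_pos (IsStd.isHomogeneous_of_minimal hI hq) hq.1.1.ne_top
  have hmax := hA.isMaximal_pos
  set Q := pos 𝒜
  have : Q.IsPrime := hmax.isPrime
  set RQ := Localization.AtPrime Q
  set MQ := LocalizedModule Q.primeCompl M
  have hqdisj : Disjoint (Q.primeCompl : Set R) (q : Set R) :=
    Set.disjoint_left.2 fun a ha ha' => ha (hqpos ha')
  set qQ : Ideal RQ := q.map (algebraMap R RQ)
  have : qQ.IsPrime := IsLocalization.isPrime_of_isPrime_disjoint Q.primeCompl RQ q hq.1.1 hqdisj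
  have hqQass : qQ ∈ associatedPrimes RQ MQ :=
    Module.associatedPrimes.mem_associatedPrimes_of_comap_mem_associatedPrimes_of_isLocalizedModule
      Q.primeCompl (LocalizedModule.mkLinearMap Q.primeCompl M) qQ (by
        show Ideal.under R (q.map (algebraMap R RQ)) ∈ _
        rw [IsLocalization.under_map_of_isPrime_disjoint Q.primeCompl RQ hq.1.1 hqdisj]
        exact hqass)
  have hnt : Nontrivial MQ := by
    by_contra h
    rw [not_nontrivial_iff_subsingleton] at h
    exact (associatedPrimes.eq_empty_of_subsingleton (R := RQ) (M := MQ)).le hqQass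
  have : Module.Finite RQ MQ := Module.Finite.of_isLocalizedModule Q.primeCompl
    (LocalizedModule.mkLinearMap Q.primeCompl M)
  have hcmQ : LocCoh.IsCohenMacaulayModule RQ MQ :=
    (hcm Q).resolve_left (not_subsingleton MQ)
  have hdimq := DepthLib.ringKrullDim_quotient_eq_of_mem_associatedPrimes hcmQ hqQass
  -- upper bound
  have hup : ringKrullDim (RQ ⧸ qQ) ≤ Module.supportDim R N := by
    have hsupp : (⟨q, hq.1.1⟩ : PrimeSpectrum R) ∈ Module.support R N := by
      rw [Module.support_eq_zeroLocus, PrimeSpectrum.mem_zeroLocus]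
      exact hq.1.2
    refine le_trans ?_ (DepthLib.ringKrullDim_quotient_le_supportDim _ hsupp)
    rw [ringKrullDim_quotient, ringKrullDim_quotient]
    refine Order.krullDim_le_of_strictMono (fun z => ⟨PrimeSpectrum.comap (algebraMap R RQ) z.1, ?_⟩) ?_
    · intro a ha
      exact z.2 (Ideal.mem_map_of_mem _ ha)
    · intro z w hzw
      refine lt_of_le_of_ne (Ideal.comap_mono hzw.le) fun he => hzw.ne (Subtype.ext ?_)
      exact PrimeSpectrum.localization_comap_injective RQ Q.primeCompl (congrArg Subtype.val he)
  -- lower bound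
  obtain ⟨d, hd⟩ := DepthLib.exists_nat_supportDim (R := RQ) MQ
  obtain ⟨D, -, hparam⟩ := exists_moduleParams (𝒜 := 𝒜) (ℳ := ℳ) (M := M) hA d fun l hl hlast => by
    have := length_le_supportDim_localized (M := M) Q l hl hlast
    rw [hd] at this
    exact_mod_cast this
  obtain ⟨g, Y, -, -, hY⟩ := hparam 1 one_pos
  have hrd := hY.nonTors_or_supportDim_lt.1
  rw [hdimM] at hrd
  have h1 := hup.trans_lt hlt
  rw [hdimq, hd] at h1
  exact absurd (h1.trans_le hrd) (lt_irrefl _)

end Groth.Agent.SegreDim
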