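import Groth.Agent.SegreDim.SegreMod
import Groth.Agent.SegreDim.CMMod

/-! Consequences for Segre products of modules. -/

namespace Groth.Agent.SegreDim

open DirectSum TensorProduct MvPolynomial

universe u

variable {k : Type u} [Field k]
  {R : Type u} [CommRing R] [Algebra k R] {𝒜 : ℤ → Submodule k R} [GradedAlgebra 𝒜]
  {S : Type u} [CommRing S] [Algebra k S] {ℬ : ℤ → Submodule k S} [GradedAlgebra ℬ]
  {M : Type u} [AddCommGroup M] [Module R M] [Module k M] [IsScalarTower k R M]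
  {ℳ : ℤ → AddSubgroup M} [DirectSum.Decomposition ℳ] [SetLike.GradedSMul 𝒜 ℳ]
  {N : Type u} [AddCommGroup N] [Module S N] [Module k N] [IsScalarTower k S N]
  {𝒩 : ℤ → AddSubgroup N} [DirectSum.Decomposition 𝒩] [SetLike.GradedSMul ℬ 𝒩]

theorem exists_common_params [Algebra.FiniteType k R] [Algebra.FiniteType k S]
    (hA : IsStd 𝒜) (hB : IsStd ℬ) [Module.Finite R M] [Module.Finite S N] (m n : ℕ)
    (hm : ∀ l : LTSeries (PrimeSpectrum R), Module.annihilator R M ≤ l.head.asIdeal →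
      l.last.asIdeal ≤ pos 𝒜 → l.length ≤ m)
    (hn : ∀ l : LTSeries (PrimeSpectrum S), Module.annihilator S N ≤ l.head.asIdeal →
      l.last.asIdeal ≤ pos ℬ → l.length ≤ n) :
    ∃ (D : ℤ) (f : Fin m → R) (g : Fin n → S) (X : Finset M) (Y : Finset N),
      0 < D ∧ (∀ i, f i ∈ 𝒜 D) ∧ (∀ j, g j ∈ ℬ D) ∧ (∀ x ∈ X, ∃ l, x ∈ ℳ l) ∧
      (∀ y ∈ Y, ∃ l, y ∈ 𝒩 l) ∧ Spans k R M f X ∧ Spans k S N g Y := by
  obtain ⟨D₁, hD₁, h₁⟩ := exists_moduleParams (ℳ := ℳ) (M := M) hA m hm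
  obtain ⟨D₂, hD₂, h₂⟩ := exists_moduleParams (ℳ := 𝒩) (M := N) hB n hn
  obtain ⟨f, X, hf, hX, hXs⟩ := h₁ D₂.toNat (by omega)
  obtain ⟨g, Y, hg, hY, hYs⟩ := h₂ D₁.toNat (by omega)
  rw [Int.toNat_of_nonneg hD₂.le] at hf
  rw [Int.toNat_of_nonneg hD₁.le, mul_comm] at hg
  exact ⟨D₁ * D₂, f, g, X, Y, mul_pos hD₁ hD₂, hf, hg, hX, hY, hXs, hYs⟩

theorem pos_le_of_std (hstd : Ideal.span (⋃ n ∈ Set.Ioi (0 : ℤ), (𝒜 n : Set R)) =
    Ideal.span ((𝒜 1 : Submodule k R) : Set R)) :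
    pos 𝒜 ≤ Ideal.span ((𝒜 1 : Submodule k R) : Set R) := by
  rw [← hstd]
  exact Ideal.span_mono fun x ⟨n, hn, hx⟩ => Set.mem_iUnion₂.2 ⟨n, hn, hx⟩

theorem le_span_one_mul (hstd : pos 𝒜 ≤ Ideal.span ((𝒜 1 : Submodule k R) : Set R)) {j : ℤ}
    (hj : 0 ≤ j) :
    𝒜 (j + 1) ≤ Submodule.span k {z : R | ∃ a ∈ 𝒜 1, ∃ r ∈ 𝒜 j, z = a * r} := by
  intro x hx
  have hx' := hstd (mem_pos (by omega) hx)
  suffices h : ∀ s : R, (decompose 𝒜 (x * s) (j + 1) : R) ∈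
      Submodule.span k {z : R | ∃ a ∈ 𝒜 1, ∃ r ∈ 𝒜 j, z = a * r} by
    have := h 1
    rwa [mul_one, decompose_of_mem_same 𝒜 hx] at this
  clear hx
  induction hx' using Submodule.span_induction with
  | mem a ha =>
    intro s
    rw [proj_mul s ha, add_sub_cancel_right]
    exact Submodule.subset_span ⟨a, ha, _, Submodule.coe_mem _, rfl⟩
  | zero => intro s; simp
  | add a b _ _ ha hb =>
    intro s
    rw [add_mul, decompose_add, DirectSum.add_apply, Submodule.coe_add]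
    exact add_mem (ha s) (hb s)
  | smul c a _ ha =>
    intro s
    rw [smul_eq_mul, show c * a * s = a * (c * s) by ring]
    exact ha (c * s)

omit [Module k M] [IsScalarTower k R M] in
include 𝒜 in
theorem exists_nonTors_ge {m : ℕ} {D : ℤ} (hD : 0 < D) {f : Fin (m + 1) → R}
    (hf : ∀ i, f i ∈ 𝒜 D) (hstd : pos 𝒜 ≤ Ideal.span ((𝒜 1 : Submodule k R) : Set R))
    {x : M} {n l : ℤ} (hx : x ∈ ℳ n) (hnt : NonTors k f x) (hl : n ≤ l) :
    ∃ y ∈ ℳ l, NonTors k f y := by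
  induction l, hl using Int.leInduction with
  | base => exact ⟨x, hx, hnt⟩
  | succ l _ ih =>
    obtain ⟨y, hy, hyn⟩ := ih
    exact exists_nonTors_step hD hf hstd hy hyn

theorem length_le_of_supportDim {R M : Type u} [CommRing R] [AddCommGroup M] [Module R M]
    [Module.Finite R M] {d : ℕ} (hd : Module.supportDim R M = (d : WithBot ℕ∞))
    (l : LTSeries (PrimeSpectrum R)) (h : Module.annihilator R M ≤ l.head.asIdeal) :
    l.length ≤ d := by
  have := length_le_supportDim (M := M) l h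
  rw [hd] at this
  exact_mod_cast this

end Groth.Agent.SegreDim
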