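import Groth.Agent.SegreDim.Graded
import Groth.Agent.DimTrdeg.Basic
import Mathlib.RingTheory.TensorProduct.Maps
import Mathlib.RingTheory.Flat.Basic
import Mathlib.RingTheory.AlgebraicIndependent.TranscendenceBasis

/-! Segre products: Noetherianity and dimension. -/

namespace Groth.Agent.SegreDim

open DirectSum TensorProduct

universe u

variable {k : Type u} [Field k]
  {R : Type u} [CommRing R] [Algebra k R] {𝒜 : ℤ → Submodule k R} [GradedAlgebra 𝒜]
  {S : Type u} [CommRing S] [Algebra k S] {ℬ : ℤ → Submodule k S} [GradedAlgebra ℬ]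

variable (𝒜 ℬ) in
/-- Projection onto the diagonal bidegrees. -/
noncomputable def diagProj : R ⊗[k] S →ₗ[k] R ⊗[k] S :=
  TensorProduct.lift ((DirectSum.toModule k ℤ _ fun n =>
    ((TensorProduct.mk k R S).compl₂ (GradedAlgebra.proj ℬ n)).comp (Submodule.subtype (𝒜 n))).comp
      (DirectSum.decomposeLinearEquiv 𝒜).toLinearMap)

theorem diagProj_tmul {n : ℤ} {a : R} (ha : a ∈ 𝒜 n) (b : S) :
    diagProj 𝒜 ℬ (a ⊗ₜ[k] b) = a ⊗ₜ[k] (decompose ℬ b n : S) := by
  rw [diagProj, TensorProduct.lift.tmul, LinearMap.comp_apply, LinearEquiv.coe_coe,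
    decomposeLinearEquiv_apply, decompose_of_mem 𝒜 ha, ← DirectSum.lof_eq_of k,
    DirectSum.toModule_lof]
  rfl

variable (𝒜 ℬ) in
/-- The tensors of diagonal degree `n`. -/
def diag (n : ℤ) : Set (R ⊗[k] S) := {x | ∃ a ∈ 𝒜 n, ∃ b ∈ ℬ n, x = a ⊗ₜ[k] b}

theorem diagProj_diag_mul {n : ℤ} {t : R ⊗[k] S} (ht : t ∈ diag 𝒜 ℬ n) (z : R ⊗[k] S) :
    diagProj 𝒜 ℬ (t * z) = t * diagProj 𝒜 ℬ z := by
  obtain ⟨a, ha, b, hb, rfl⟩ := ht
  induction z using TensorProduct.induction_on with
  | zero => simp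
  | add x y hx hy => simp only [mul_add, map_add, hx, hy]
  | tmul c d =>
    induction c using DirectSum.Decomposition.inductionOn 𝒜 with
    | zero => simp
    | add x y hx hy => simp only [add_tmul, mul_add, map_add, hx, hy]
    | @homogeneous i c =>
      rw [Algebra.TensorProduct.tmul_mul_tmul,
        diagProj_tmul (SetLike.GradedMul.mul_mem ha c.2), diagProj_tmul c.2, proj_mul d hb,
        Algebra.TensorProduct.tmul_mul_tmul, show n + i - n = i by ring]

variable {T : Type u} [CommRing T] [Algebra k T] {𝒯 : ℤ → Submodule k T} [GradedAlgebra 𝒯]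
  (ψ : T →ₐ[k] R ⊗[k] S) (hψ : Function.Injective ψ)
  (hdeg : ∀ n : ℤ, (𝒯 n).map ψ.toLinearMap = Submodule.span k (diag 𝒜 ℬ n))

include hdeg in
theorem mem_range_of_diag {n : ℤ} {x : R ⊗[k] S} (hx : x ∈ diag 𝒜 ℬ n) : ∃ t : T, ψ t = x := by
  have h : x ∈ (𝒯 n).map ψ.toLinearMap := by rw [hdeg]; exact Submodule.subset_span hx
  obtain ⟨t, -, ht⟩ := h
  exact ⟨t, ht⟩

include hdeg in
theorem range_le_span (t : T) : ψ t ∈ Submodule.span k (⋃ n, diag 𝒜 ℬ n) := by
  induction t using DirectSum.Decomposition.inductionOn 𝒯 with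
  | zero => rw [map_zero]; exact zero_mem _
  | add a b ha hb => rw [map_add]; exact add_mem ha hb
  | @homogeneous n a =>
    have h : ψ a ∈ (𝒯 n).map ψ.toLinearMap := ⟨a, a.2, rfl⟩
    rw [hdeg] at h
    exact Submodule.span_mono (Set.subset_iUnion _ n) h

include hdeg in
theorem diagProj_mul_map (t : T) (z : R ⊗[k] S) :
    diagProj 𝒜 ℬ (ψ t * z) = ψ t * diagProj 𝒜 ℬ z := by
  have hmem := range_le_span ψ hdeg t
  generalize ψ t = y at hmem ⊢
  induction hmem using Submodule.span_induction with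
  | mem x hx =>
    obtain ⟨n, hn⟩ := Set.mem_iUnion.1 hx
    exact diagProj_diag_mul hn z
  | zero => simp
  | add x y _ _ hx hy => simp only [add_mul, map_add, hx, hy]
  | smul c x _ hx => simp only [smul_mul_assoc, map_smul, hx]

include hdeg in
theorem diagProj_map (t : T) : diagProj 𝒜 ℬ (ψ t) = ψ t := by
  have h1 : diagProj 𝒜 ℬ (1 : R ⊗[k] S) = 1 := by
    rw [Algebra.TensorProduct.one_def, diagProj_tmul (SetLike.one_mem_graded 𝒜),
      decompose_of_mem_same ℬ (SetLike.one_mem_graded ℬ)]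
  have := diagProj_mul_map ψ hdeg t 1
  rwa [mul_one, h1, mul_one] at this

include hdeg in
theorem diagProj_mem_range (z : R ⊗[k] S) : ∃ t : T, ψ t = diagProj 𝒜 ℬ z := by
  induction z using TensorProduct.induction_on with
  | zero => exact ⟨0, by simp⟩
  | add x y hx hy =>
    obtain ⟨s, hs⟩ := hx; obtain ⟨t, ht⟩ := hy
    exact ⟨s + t, by rw [map_add, map_add, hs, ht]⟩
  | tmul c d =>
    induction c using DirectSum.Decomposition.inductionOn 𝒜 with
    | zero => exact ⟨0, by simp⟩
    | add x y hx hy =>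
      obtain ⟨s, hs⟩ := hx; obtain ⟨t, ht⟩ := hy
      exact ⟨s + t, by rw [map_add, add_tmul, map_add, hs, ht]⟩
    | @homogeneous i c =>
      rw [diagProj_tmul c.2]
      exact mem_range_of_diag ψ hdeg ⟨c, c.2, _, Submodule.coe_mem _, rfl⟩

include hψ hdeg in
theorem isNoetherian [Algebra.FiniteType k R] [Algebra.FiniteType k S] : IsNoetherianRing T := by
  have : IsNoetherianRing R := Algebra.FiniteType.isNoetherianRing k R
  have : IsNoetherianRing (R ⊗[k] S) := Algebra.FiniteType.isNoetherianRing R _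
  have hcomap : ∀ (I : Ideal T) (t : T), ψ t ∈ I.map ψ.toRingHom → t ∈ I := by
    intro I t ht
    have key : ∀ y ∈ I.map ψ.toRingHom, ∀ z, ∃ i ∈ I, ψ i = diagProj 𝒜 ℬ (y * z) := by
      intro y hy
      rw [Ideal.map] at hy
      induction hy using Submodule.span_induction with
      | mem x hx =>
        obtain ⟨i, hi, rfl⟩ := hx
        intro z
        obtain ⟨s, hs⟩ := diagProj_mem_range ψ hdeg z
        refine ⟨i * s, I.mul_mem_right s hi, ?_⟩
        show ψ (i * s) = diagProj 𝒜 ℬ (ψ i * z)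
        rw [map_mul, hs, diagProj_mul_map ψ hdeg]
      | zero => exact fun z => ⟨0, I.zero_mem, by simp⟩
      | add a b _ _ ha hb =>
        intro z
        obtain ⟨i, hi, hi'⟩ := ha z; obtain ⟨j, hj, hj'⟩ := hb z
        exact ⟨i + j, I.add_mem hi hj, by rw [map_add, hi', hj', add_mul, map_add]⟩
      | smul r a _ ha =>
        intro z
        obtain ⟨i, hi, hi'⟩ := ha (r * z)
        exact ⟨i, hi, by rw [hi', smul_eq_mul, show r * a * z = a * (r * z) by ring]⟩
    obtain ⟨i, hi, hi'⟩ := key _ ht 1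
    rw [mul_one, diagProj_map ψ hdeg] at hi'
    exact hψ hi' ▸ hi
  rw [isNoetherianRing_iff, isNoetherian_iff]
  refine Subrelation.wf (r := InvImage (· > ·) fun I : Ideal T => I.map ψ.toRingHom) ?_
    (InvImage.wf _ (isNoetherian_iff.1 (isNoetherianRing_iff.1 inferInstance)))
  intro I J hIJ
  refine lt_of_le_of_ne (Ideal.map_mono (le_of_lt hIJ)) fun he => hIJ.ne ?_
  refine le_antisymm (le_of_lt hIJ) fun t ht => hcomap J t ?_
  exact he.symm.le (Ideal.mem_map_of_mem _ ht)

/-! ### Dimension -/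

open MvPolynomial

/-- The algebra of `X_i Y_j`. -/
noncomputable def segreAlg (k : Type u) [Field k] (r s : ℕ) :
    Subalgebra k (MvPolynomial (Fin r ⊕ Fin s) k) :=
  Algebra.adjoin k (Set.range fun p : Fin r × Fin s => X (Sum.inl p.1) * X (Sum.inr p.2))

theorem isAlgebraic_of_mul_mem {A : Type u} [CommRing A] [IsDomain A] [Algebra k A]
    (V : Subalgebra k A) (G : Set A) (hgen : Algebra.adjoin k G = ⊤) {a : A} (haV : a ∈ V)
    (ha : a ≠ 0) (hG : ∀ x ∈ G, a * x ∈ V) : Algebra.IsAlgebraic V A := by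
  refine ⟨fun x => ?_⟩
  have hx : x ∈ Algebra.adjoin k G := hgen ▸ Algebra.mem_top
  induction hx using Algebra.adjoin_induction with
  | mem y hy =>
    refine ⟨Polynomial.C ⟨a, haV⟩ * Polynomial.X - Polynomial.C ⟨a * y, hG y hy⟩, fun h => ha ?_, ?_⟩
    · have := congrArg (fun p => (Polynomial.coeff p 1 : V).1) h
      simpa using this
    · rw [map_sub, map_mul, Polynomial.aeval_C, Polynomial.aeval_X, Polynomial.aeval_C, sub_eq_zero]
      rfl
  | algebraMap c => exact isAlgebraic_algebraMap (⟨algebraMap k A c, V.algebraMap_mem c⟩ : V)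
  | add x y _ _ hx hy => exact hx.add hy
  | mul x y _ _ hx hy => exact hx.mul hy

theorem dim_segreAlg (k : Type u) [Field k] (r s : ℕ) :
    ringKrullDim (segreAlg k (r + 1) (s + 1)) = ((r + s + 1 : ℕ) : WithBot ℕ∞) := by
  set A := segreAlg k (r + 1) (s + 1)
  let z : Fin (r + 1) → Fin (s + 1) → A := fun i j =>
    ⟨_, Algebra.subset_adjoin ⟨(i, j), rfl⟩⟩
  let v : Fin (s + 1) ⊕ Fin r → A := Sum.elim (fun j => z 0 j) (fun i => z i.succ 0)
  have hv : AlgebraicIndependent k v := by
    let P := MvPolynomial (Fin (s + 1) ⊕ Fin r) k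
    let F := FractionRing P
    let ρ : MvPolynomial (Fin (r + 1) ⊕ Fin (s + 1)) k →ₐ[k] F :=
      aeval (Sum.elim (Fin.cons 1 fun i => algebraMap P F (X (Sum.inr i)) / algebraMap P F (X (Sum.inl 0)))
        (fun j => algebraMap P F (X (Sum.inl j))))
    have hne : algebraMap P F (X (Sum.inl 0)) ≠ 0 :=
      (map_ne_zero_iff _ (IsFractionRing.injective P F)).2 (X_ne_zero _)
    have hcomp : (ρ.comp A.val).comp (aeval v) = IsScalarTower.toAlgHom k P F := by
      refine MvPolynomial.algHom_ext fun x => ?_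
      rcases x with j | i
      · simp [v, z, ρ, P]
      · simp [v, z, ρ, P, div_mul_cancel₀ _ hne]
    rw [algebraicIndependent_iff_injective_aeval]
    intro p q hpq
    apply IsFractionRing.injective P F
    have := congrArg (fun a => ρ (A.val a)) hpq
    have hp := AlgHom.congr_fun hcomp p
    have hq := AlgHom.congr_fun hcomp q
    simp only [AlgHom.comp_apply] at hp hq
    rw [IsScalarTower.coe_toAlgHom'] at hp hq
    exact hp.symm.trans (this.trans hq)
  have : Algebra.FiniteType k A :=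
    A.fg_iff_finiteType.1 (Subalgebra.fg_def.2 ⟨_, Set.finite_range _, rfl⟩)
  have halg : Algebra.IsAlgebraic (Algebra.adjoin k (Set.range v)) A := by
    have hmem : ∀ x, v x ∈ Algebra.adjoin k (Set.range v) := fun x => Algebra.subset_adjoin ⟨x, rfl⟩
    have hi0 : ∀ i, z i 0 ∈ Algebra.adjoin k (Set.range v) := fun i =>
      Fin.cases (hmem (Sum.inl 0)) (fun i => hmem (Sum.inr i)) i
    have h00 : z 0 0 ≠ 0 := fun h => by
      have h' := congrArg Subtype.val h
      simp [z] at h'
    refine isAlgebraic_of_mul_mem _ _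
      (Algebra.adjoin_adjoin_coe_preimage (R := k) (s := Set.range fun p : Fin (r + 1) × Fin (s + 1) =>
        (X (Sum.inl p.1) * X (Sum.inr p.2) : MvPolynomial (Fin (r + 1) ⊕ Fin (s + 1)) k)))
      (hi0 0) h00 ?_
    rintro x ⟨p, hp⟩
    have hx : x = z p.1 p.2 := Subtype.ext hp.symm
    have hmul : z 0 0 * z p.1 p.2 = z p.1 0 * z 0 p.2 := Subtype.ext (by
      show (X (Sum.inl 0) * X (Sum.inr 0)) * (X (Sum.inl p.1) * X (Sum.inr p.2)) =
        (X (Sum.inl p.1) * X (Sum.inr 0)) * (X (Sum.inl 0) * X (Sum.inr p.2))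
      ring)
    rw [hx, hmul]
    exact mul_mem (hi0 _) (hmem (Sum.inl p.2))
  obtain ⟨n, hn, hdim⟩ := DimTrdeg.exists_trdeg_eq_ringKrullDim k A
  have h1 := hv.lift_cardinalMk_le_trdeg
  have h2 : Algebra.trdeg k A ≤ Cardinal.mk (Set.range v) := Algebra.IsAlgebraic.trdeg_le_cardinalMk k (Set.range v)
  rw [hn, Cardinal.mk_fintype, Cardinal.lift_natCast, Cardinal.lift_natCast, Nat.cast_le, Fintype.card_sum,
    Fintype.card_fin, Fintype.card_fin] at h1
  rw [hn] at h2
  have h3 := Cardinal.lift_le.{0}.2 h2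
  have h4 := h3.trans (Cardinal.mk_range_le_lift (f := v))
  rw [Cardinal.mk_fintype, Cardinal.lift_natCast, Cardinal.lift_natCast, Nat.cast_le, Fintype.card_sum,
    Fintype.card_fin, Fintype.card_fin] at h4
  rw [hdim, show n = r + s + 1 by omega]

/-- The map from the polynomial ring to the tensor product given by parameters. -/
noncomputable def tensorMap {r s : ℕ} (f : Fin r → R) (g : Fin s → S) :
    MvPolynomial (Fin r ⊕ Fin s) k →ₐ[k] R ⊗[k] S :=
  (Algebra.TensorProduct.map (aeval f) (aeval g)).comp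
    (aeval (Sum.elim (fun i => (X i ⊗ₜ[k] (1 : MvPolynomial (Fin s) k)))
      (fun j => (1 : MvPolynomial (Fin r) k) ⊗ₜ[k] X j)))

theorem tensorMap_injective {r s : ℕ} {f : Fin r → R} {g : Fin s → S}
    (hf : AlgebraicIndependent k f) (hg : AlgebraicIndependent k g) :
    Function.Injective (tensorMap (k := k) f g) := by
  set e : MvPolynomial (Fin r ⊕ Fin s) k →ₐ[k] MvPolynomial (Fin r) k ⊗[k] MvPolynomial (Fin s) k :=
    aeval (Sum.elim (fun i => (X i ⊗ₜ[k] (1 : MvPolynomial (Fin s) k)))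
      (fun j => (1 : MvPolynomial (Fin r) k) ⊗ₜ[k] X j))
  let μ : MvPolynomial (Fin r) k ⊗[k] MvPolynomial (Fin s) k →ₐ[k] MvPolynomial (Fin r ⊕ Fin s) k :=
    Algebra.TensorProduct.productMap (rename Sum.inl) (rename Sum.inr)
  have he : μ.comp e = AlgHom.id k _ := MvPolynomial.algHom_ext fun x => by
    rcases x with i | j <;> simp [μ, e]
  have hinj : Function.Injective e :=
    Function.LeftInverse.injective (g := μ) fun x => AlgHom.congr_fun he x
  rw [algebraicIndependent_iff_injective_aeval] at hf hg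
  rw [tensorMap, AlgHom.coe_comp]
  refine Function.Injective.comp ?_ hinj
  exact TensorProduct.map_injective_of_flat_flat (R := k) (aeval f).toLinearMap (aeval g).toLinearMap hf hg

/-- Homogeneous parameters of a common degree. -/
theorem exists_normalization [Algebra.FiniteType k R] (hA : IsStd 𝒜) {r : ℕ}
    (hr : ringKrullDim R = r) :
    ∃ D : ℤ, 0 < D ∧ ∀ t : ℕ, 0 < t → ∃ f : Fin r → R, (∀ i, f i ∈ 𝒜 (D * t)) ∧
      AlgebraicIndependent k f ∧ ∃ M : Finset R, (∀ m ∈ M, ∃ n, m ∈ 𝒜 n) ∧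
      Submodule.span k {x : R | ∃ (a : Fin r → ℕ), ∃ m ∈ M, x = (∏ i, f i ^ a i) * m} = ⊤ := by
  have : IsNoetherianRing R := Algebra.FiniteType.isNoetherianRing k R
  have : Nontrivial R := by
    by_contra hn
    rw [not_nontrivial_iff_subsingleton] at hn
    rw [ringKrullDim_eq_bot_of_subsingleton] at hr
    exact WithBot.bot_ne_natCast r hr
  obtain ⟨f₀, e, he, hrad⟩ := hA.exists_params r ⊥ (Ideal.IsHomogeneous.bot 𝒜) fun l _ _ => by
    have := Order.LTSeries.length_le_krullDim l
    rw [show Order.krullDim (PrimeSpectrum R) = r from hr] at this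
    exact_mod_cast this
  have hDpos : 0 < ∏ i, e i := Finset.prod_pos fun i _ => (he i).1
  refine ⟨∏ i, e i, hDpos, fun t ht => ?_⟩
  let w : Fin r → ℕ := fun i => (∏ j ∈ Finset.univ.erase i, e j).toNat * t
  have hw : ∀ i, 0 < w i ∧ (w i : ℤ) * e i = (∏ j, e j) * t := fun i => by
    have hp : 0 < ∏ j ∈ Finset.univ.erase i, e j := Finset.prod_pos fun j _ => (he j).1
    refine ⟨Nat.mul_pos (by omega) ht, ?_⟩
    rw [← Finset.prod_erase_mul _ _ (Finset.mem_univ i)]
    simp only [w, Nat.cast_mul, Int.toNat_of_nonneg hp.le]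
    ring
  let f : Fin r → R := fun i => f₀ i ^ w i
  have hfmem : ∀ i, f i ∈ 𝒜 ((∏ j, e j) * t) := fun i => by
    have := SetLike.pow_mem_graded (w i) (he i).2
    rwa [nsmul_eq_mul, (hw i).2] at this
  have hrad' : pos 𝒜 ≤ (Ideal.span (Set.range f)).radical := by
    refine hrad.trans ?_
    rw [bot_sup_eq, Ideal.radical_le_radical_iff, Ideal.span_le]
    rintro _ ⟨i, rfl⟩
    exact ⟨w i, Ideal.subset_span ⟨i, rfl⟩⟩
  obtain ⟨M, hM, hspan⟩ := hA.exists_spanning f (mul_pos hDpos (by exact_mod_cast ht)) hfmem hrad'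
  refine ⟨f, hfmem, ?_, M, hM, hspan⟩
  -- independence
  rw [algebraicIndependent_iff_injective_aeval]
  let P := MvPolynomial (Fin r) k
  let φ : P →ₐ[k] R := aeval f
  by_contra hinj
  obtain ⟨p, hp0, hpne⟩ : ∃ p : P, φ p = 0 ∧ p ≠ 0 := by
    rw [injective_iff_map_eq_zero] at hinj
    push Not at hinj
    exact hinj
  let I := RingHom.ker φ.toRingHom
  let _ : Algebra (P ⧸ I) R := (RingHom.kerLift φ.toRingHom).toAlgebra
  have hinj' : Function.Injective (algebraMap (P ⧸ I) R) := RingHom.kerLift_injective φ.toRingHom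
  have : Algebra.IsIntegral (P ⧸ I) R := by
    have : Module.Finite (P ⧸ I) R := by
      refine ⟨⟨M, ?_⟩⟩
      rw [eq_top_iff]
      rintro x -
      have hx : x ∈ Submodule.span k {x : R | ∃ (a : Fin r → ℕ), ∃ m ∈ M, x = (∏ i, f i ^ a i) * m} :=
        hspan ▸ Submodule.mem_top
      induction hx using Submodule.span_induction with
      | mem y hy =>
        obtain ⟨a, m, hm, rfl⟩ := hy
        have : (∏ i, f i ^ a i) * m = (Ideal.Quotient.mk I (∏ i, (X i : P) ^ a i)) • m := by
          rw [Algebra.smul_def]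
          show _ = φ (∏ i, (X i : P) ^ a i) * m
          simp [φ, P]
        rw [this]
        exact Submodule.smul_mem _ _ (Submodule.subset_span hm)
      | zero => exact zero_mem _
      | add a b _ _ ha hb => exact add_mem ha hb
      | smul c y _ hy =>
        have : c • y = (Ideal.Quotient.mk I (C c : P)) • y := by
          rw [Algebra.smul_def, Algebra.smul_def]
          show _ = φ (C c) * y
          simp [φ, P]
        rw [this]
        exact Submodule.smul_mem _ _ hy
    exact Algebra.IsIntegral.of_finite _ _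
  have h1 := DimTrdeg.ringKrullDim_eq_of_isIntegral (P ⧸ I) R hinj'
  have h2 := ringKrullDim_succ_le_of_surjective (Ideal.Quotient.mk I) Ideal.Quotient.mk_surjective
    (r := p) (mem_nonZeroDivisors_of_ne_zero hpne) (Ideal.Quotient.eq_zero_iff_mem.2 hp0)
  rw [← h1, hr, MvPolynomial.ringKrullDim_of_isNoetherianRing, ringKrullDim_eq_zero_of_field,
    Nat.card_fin, zero_add] at h2
  exact absurd h2 (by norm_cast; omega)

include hψ hdeg in
theorem dim_segre [Algebra.FiniteType k R] [Algebra.FiniteType k S] (hA : IsStd 𝒜) (hB : IsStd ℬ)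
    {r s : ℕ} (hr : ringKrullDim R = (r + 1 : ℕ)) (hs : ringKrullDim S = (s + 1 : ℕ)) :
    ringKrullDim T = ((r + s + 1 : ℕ) : WithBot ℕ∞) := by
  classical
  obtain ⟨D₁, hD₁, h1⟩ := exists_normalization hA hr
  obtain ⟨D₂, hD₂, h2⟩ := exists_normalization hB hs
  obtain ⟨f, hf, hfi, M, hM, hMs⟩ := h1 D₂.toNat (by omega)
  obtain ⟨g, hg, hgi, N, hN, hNs⟩ := h2 D₁.toNat (by omega)
  rw [Int.toNat_of_nonneg hD₂.le] at hf
  rw [Int.toNat_of_nonneg hD₁.le, mul_comm] at hg
  set D := D₁ * D₂
  have hD : 0 < D := mul_pos hD₁ hD₂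
  choose z hz using fun p : Fin (r + 1) × Fin (s + 1) =>
    mem_range_of_diag ψ hdeg (x := f p.1 ⊗ₜ[k] g p.2) ⟨_, hf p.1, _, hg p.2, rfl⟩
  set U := Algebra.adjoin k (Set.range z)
  choose dM hdM using hM
  choose dN hdN using hN
  let N₀ : ℕ := (∑ m ∈ M.attach, (dM m.1 m.2).natAbs) + ∑ n ∈ N.attach, (dN n.1 n.2).natAbs
  let W : Finset (R ⊗[k] S) := ((((Finset.univ : Finset (Fin (r + 1) → Fin (N₀ + 1))) ×ˢ
    (Finset.univ : Finset (Fin (s + 1) → Fin (N₀ + 1)))) ×ˢ M) ×ˢ N).image fun x =>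
      diagProj 𝒜 ℬ (((∏ i, f i ^ (x.1.1.1 i : ℕ)) * x.1.2) ⊗ₜ[k] ((∏ j, g j ^ (x.1.1.2 j : ℕ)) * x.2))
  choose w hw using fun x : R ⊗[k] S => diagProj_mem_range ψ hdeg x
  let W' : Finset T := ((((Finset.univ : Finset (Fin (r + 1) → Fin (N₀ + 1))) ×ˢ
    (Finset.univ : Finset (Fin (s + 1) → Fin (N₀ + 1)))) ×ˢ M) ×ˢ N).image fun x =>
      w (((∏ i, f i ^ (x.1.1.1 i : ℕ)) * x.1.2) ⊗ₜ[k] ((∏ j, g j ^ (x.1.1.2 j : ℕ)) * x.2))
  set Q := Submodule.span U (W' : Set T)
  have hmon : ∀ (K : ℕ) (a : Fin (r + 1) → ℕ) (b : Fin (s + 1) → ℕ), ∑ i, a i = K →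
      ∀ m ∈ M, ∀ n ∈ N, w (((∏ i, f i ^ a i) * m) ⊗ₜ[k] ((∏ j, g j ^ b j) * n)) ∈ Q := by
    intro K
    induction K using Nat.strong_induction_on with
    | _ K ih =>
    intro a b hK m hm n hn
    have hamem : (∏ i, f i ^ a i) * m ∈ 𝒜 (D * (∑ i, a i : ℕ) + dM m hm) := by
      refine SetLike.GradedMul.mul_mem ?_ (hdM m hm)
      have := SetLike.prod_pow_mem_graded 𝒜 (fun _ : Fin (r + 1) => D) f a (F := Finset.univ)
        (fun i _ => hf i)
      convert this using 2
      rw [Nat.cast_sum, Finset.mul_sum]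
      exact Finset.sum_congr rfl fun i _ => by rw [nsmul_eq_mul, mul_comm]
    have hbmem : (∏ j, g j ^ b j) * n ∈ ℬ (D * (∑ j, b j : ℕ) + dN n hn) := by
      refine SetLike.GradedMul.mul_mem ?_ (hdN n hn)
      have := SetLike.prod_pow_mem_graded ℬ (fun _ : Fin (s + 1) => D) g b (F := Finset.univ)
        (fun i _ => hg i)
      convert this using 2
      rw [Nat.cast_sum, Finset.mul_sum]
      exact Finset.sum_congr rfl fun i _ => by rw [nsmul_eq_mul, mul_comm]
    by_cases hne : D * (∑ i, a i : ℕ) + dM m hm = D * (∑ j, b j : ℕ) + dN n hn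
    swap
    · have h0 : w (((∏ i, f i ^ a i) * m) ⊗ₜ[k] ((∏ j, g j ^ b j) * n)) = 0 := hψ (by
        rw [hw, diagProj_tmul hamem, decompose_of_mem_ne ℬ hbmem (Ne.symm hne), tmul_zero, map_zero])
      rw [h0]; exact zero_mem _
    by_cases hsmall : (∀ i, a i = 0) ∨ (∀ j, b j = 0)
    · have hM' : (dM m hm).natAbs ≤ ∑ m ∈ M.attach, (dM m.1 m.2).natAbs :=
        Finset.single_le_sum (f := fun m : {x // x ∈ M} => (dM m.1 m.2).natAbs)
          (fun _ _ => Nat.zero_le _) (Finset.mem_attach M ⟨m, hm⟩)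
      have hN' : (dN n hn).natAbs ≤ ∑ n ∈ N.attach, (dN n.1 n.2).natAbs :=
        Finset.single_le_sum (f := fun m : {x // x ∈ N} => (dN m.1 m.2).natAbs)
          (fun _ _ => Nat.zero_le _) (Finset.mem_attach N ⟨n, hn⟩)
      have hbound : (∀ i, a i < N₀ + 1) ∧ (∀ j, b j < N₀ + 1) := by
        constructor
        · intro i
          rcases hsmall with h0 | h0
          · rw [h0 i]; omega
          · have hle : a i ≤ ∑ i, a i := Finset.single_le_sum (fun _ _ => Nat.zero_le _) (Finset.mem_univ i)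
            have hb0 : ∑ j, b j = 0 := Finset.sum_eq_zero fun j _ => h0 j
            rw [hb0] at hne
            have h3 : ((∑ i, a i : ℕ) : ℤ) ≤ D * ((∑ i, a i : ℕ) : ℤ) :=
              le_mul_of_one_le_left (Int.natCast_nonneg _) hD
            simp only [Nat.cast_zero, mul_zero, zero_add] at hne
            simp only [N₀]
            omega
        · intro j
          rcases hsmall with h0 | h0
          · have hle : b j ≤ ∑ j, b j := Finset.single_le_sum (fun _ _ => Nat.zero_le _) (Finset.mem_univ j)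
            have ha0 : ∑ i, a i = 0 := Finset.sum_eq_zero fun i _ => h0 i
            rw [ha0] at hne
            have h3 : ((∑ j, b j : ℕ) : ℤ) ≤ D * ((∑ j, b j : ℕ) : ℤ) :=
              le_mul_of_one_le_left (Int.natCast_nonneg _) hD
            simp only [Nat.cast_zero, mul_zero, zero_add] at hne
            simp only [N₀]
            omega
          · rw [h0 j]; omega
      refine Submodule.subset_span ?_
      simp only [W', Finset.coe_image, Set.mem_image, Finset.mem_coe]
      exact ⟨(((fun i => ⟨a i, hbound.1 i⟩, fun j => ⟨b j, hbound.2 j⟩), m), n), by simp [hm, hn], rfl⟩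
    · push Not at hsmall
      obtain ⟨⟨i, hi⟩, ⟨j, hj⟩⟩ := hsmall
      set a' := Function.update a i (a i - 1) with ha'
      set b' := Function.update b j (b j - 1) with hb'
      have hpa : ∏ l, f l ^ a l = f i * ∏ l, f l ^ a' l := by
        rw [← Finset.mul_prod_erase _ _ (Finset.mem_univ i),
          ← Finset.mul_prod_erase (Finset.univ) (fun l => f l ^ a' l) (Finset.mem_univ i), ← mul_assoc]
        congr 1
        · rw [ha', Function.update_self, ← pow_succ']; congr 1; omega
        · exact Finset.prod_congr rfl fun l hl => by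
            rw [ha', Function.update_of_ne (Finset.ne_of_mem_erase hl)]
      have hpb : ∏ l, g l ^ b l = g j * ∏ l, g l ^ b' l := by
        rw [← Finset.mul_prod_erase _ _ (Finset.mem_univ j),
          ← Finset.mul_prod_erase (Finset.univ) (fun l => g l ^ b' l) (Finset.mem_univ j), ← mul_assoc]
        congr 1
        · rw [hb', Function.update_self, ← pow_succ']; congr 1; omega
        · exact Finset.prod_congr rfl fun l hl => by
            rw [hb', Function.update_of_ne (Finset.ne_of_mem_erase hl)]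
      have hlt : ∑ l, a' l < K := by
        rw [← hK]
        refine Finset.sum_lt_sum (fun l _ => ?_) ⟨i, Finset.mem_univ i, ?_⟩
        · rw [ha', Function.update_apply]; split_ifs with h <;> simp_all
        · rw [ha', Function.update_self]; omega
      have heq : w (((∏ i, f i ^ a i) * m) ⊗ₜ[k] ((∏ j, g j ^ b j) * n)) =
          z (i, j) * w (((∏ l, f l ^ a' l) * m) ⊗ₜ[k] ((∏ l, g l ^ b' l) * n)) := hψ (by
        rw [hw, map_mul, hw, ← diagProj_mul_map ψ hdeg, hz, Algebra.TensorProduct.tmul_mul_tmul,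
          hpa, hpb, mul_assoc, mul_assoc])
      rw [heq]
      exact Submodule.smul_mem Q (⟨z (i, j), Algebra.subset_adjoin ⟨(i, j), rfl⟩⟩ : U)
        (ih _ hlt a' b' rfl m hm n hn)
  have hQ : ∀ x : R ⊗[k] S, w x ∈ Q := by
    have hadd : ∀ x y, w (x + y) = w x + w y := fun x y => hψ (by simp [hw])
    have hsmul : ∀ (c : k) x, w (c • x) = c • w x := fun c x => hψ (by simp [hw])
    have hzero : w 0 = 0 := hψ (by simp [hw])
    intro x
    induction x using TensorProduct.induction_on with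
    | zero => rw [hzero]; exact zero_mem _
    | add x y hx hy => rw [hadd]; exact add_mem hx hy
    | tmul c d =>
      have hc : c ∈ Submodule.span k _ := hMs ▸ (Submodule.mem_top : c ∈ ⊤)
      have hd : d ∈ Submodule.span k _ := hNs ▸ (Submodule.mem_top : d ∈ ⊤)
      induction hc using Submodule.span_induction with
      | mem c hc =>
        induction hd using Submodule.span_induction with
        | mem d hd =>
          obtain ⟨a, m, hm, rfl⟩ := hc
          obtain ⟨b, n, hn, rfl⟩ := hd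
          exact hmon _ a b rfl m hm n hn
        | zero => rw [tmul_zero, hzero]; exact zero_mem _
        | add _ _ _ _ h1 h2 => rw [tmul_add, hadd]; exact add_mem h1 h2
        | smul q _ _ h1 => rw [tmul_smul, hsmul]; exact Submodule.smul_of_tower_mem _ q h1
      | zero => rw [zero_tmul, hzero]; exact zero_mem _
      | add _ _ _ _ h1 h2 => rw [add_tmul, hadd]; exact add_mem h1 h2
      | smul q _ _ h1 => rw [← smul_tmul', hsmul]; exact Submodule.smul_of_tower_mem _ q h1
  have : Module.Finite U T := by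
    refine ⟨⟨W', ?_⟩⟩
    rw [eq_top_iff]
    intro t _
    have : w (ψ t) = t := hψ (by rw [hw, diagProj_map ψ hdeg])
    exact this ▸ hQ (ψ t)
  have : Algebra.IsIntegral U T := Algebra.IsIntegral.of_finite _ _
  rw [DimTrdeg.ringKrullDim_eq_of_isIntegral U T Subtype.val_injective,
    ← dim_segreAlg k r s]
  have himg : U.map ψ = (segreAlg k (r + 1) (s + 1)).map (tensorMap f g) := by
    rw [AlgHom.map_adjoin, segreAlg, AlgHom.map_adjoin, ← Set.range_comp, ← Set.range_comp]
    congr 1
    refine congrArg Set.range (funext fun p => ?_)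
    simp [hz, tensorMap, Algebra.TensorProduct.tmul_mul_tmul]
  exact ringKrullDim_eq_of_ringEquiv (((U.equivMapOfInjective ψ hψ).trans
    (Subalgebra.equivOfEq _ _ himg)).trans
    ((segreAlg k (r + 1) (s + 1)).equivMapOfInjective (tensorMap f g) (tensorMap_injective hfi hgi)).symm).toRingEquiv

end Groth.Agent.SegreDim
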