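import Mathlib.RingTheory.GradedAlgebra.Radical
import Mathlib.RingTheory.GradedAlgebra.Noetherian
import Mathlib.RingTheory.FiniteType
import Mathlib.RingTheory.IntegralClosure.IsIntegralClosure.Basic
import Mathlib.RingTheory.Ideal.MinimalPrime.Noetherian
import Mathlib.RingTheory.KrullDimension.Basic
import Mathlib.RingTheory.KrullDimension.Polynomial
import Mathlib.RingTheory.KrullDimension.NonZeroDivisors
import Mathlib.Tactic

/-! Homogeneous systems of parameters for ℤ-graded algebras over a field. -/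

namespace Groth.Agent.SegreDim

open DirectSum

universe u

/-- An algebra over a field, graded in non-negative degrees, with scalars in degree zero. -/
structure IsStd {k R : Type u} [Field k] [CommRing R] [Algebra k R]
    (𝒜 : ℤ → Submodule k R) : Prop where
  neg : ∀ n : ℤ, n < 0 → 𝒜 n = ⊥
  zero : 𝒜 0 = Submodule.span k {(1 : R)}

variable {k R : Type u} [Field k] [CommRing R] [Algebra k R]
  {𝒜 : ℤ → Submodule k R} [GradedAlgebra 𝒜]

theorem proj_mul (s : R) {e : ℤ} {q : R} (hq : q ∈ 𝒜 e) (d : ℤ) :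
    (decompose 𝒜 (q * s) d : R) = q * (decompose 𝒜 s (d - e) : R) := by
  induction s using DirectSum.Decomposition.inductionOn 𝒜 with
  | zero => simp
  | add a b ha hb =>
    rw [mul_add, decompose_add, DirectSum.add_apply, Submodule.coe_add, ha, hb, decompose_add,
      DirectSum.add_apply, Submodule.coe_add, mul_add]
  | @homogeneous j a =>
    have hmem : q * (a : R) ∈ 𝒜 (e + j) := SetLike.GradedMul.mul_mem hq a.2
    by_cases h : d = e + j
    · subst h
      rw [decompose_of_mem_same 𝒜 hmem, show e + j - e = j by ring, decompose_of_mem_same 𝒜 a.2]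
    · rw [decompose_of_mem_ne 𝒜 hmem (Ne.symm h), decompose_of_mem_ne 𝒜 a.2 (by omega), mul_zero]

/-- The ideal of elements of positive degree. -/
def pos (𝒜 : ℤ → Submodule k R) : Ideal R := Ideal.span {x | ∃ n : ℤ, 0 < n ∧ x ∈ 𝒜 n}

theorem mem_pos {n : ℤ} (hn : 0 < n) {x : R} (hx : x ∈ 𝒜 n) : x ∈ pos 𝒜 :=
  Ideal.subset_span ⟨n, hn, hx⟩

namespace IsStd

variable (h : IsStd 𝒜)
include h

theorem eq_zero {n : ℤ} (hn : n < 0) {x : R} (hx : x ∈ 𝒜 n) : x = 0 := by
  rwa [h.neg n hn, Submodule.mem_bot] at hx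

theorem exists_scalar {x : R} (hx : x ∈ 𝒜 0) : ∃ c : k, c • (1 : R) = x := by
  rwa [h.zero, Submodule.mem_span_singleton] at hx

theorem sub_mem_pos (x : R) : x - (decompose 𝒜 x 0 : R) ∈ pos 𝒜 := by
  induction x using DirectSum.Decomposition.inductionOn 𝒜 with
  | zero => simp
  | add a b ha hb =>
    rw [decompose_add, DirectSum.add_apply, Submodule.coe_add, add_sub_add_comm]
    exact add_mem ha hb
  | @homogeneous j a =>
    rcases lt_trichotomy j 0 with hj | hj | hj
    · rw [h.eq_zero hj a.2]; simp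
    · subst hj
      rw [decompose_of_mem_same 𝒜 a.2, sub_self]; exact zero_mem _
    · rw [decompose_of_mem_ne 𝒜 a.2 hj.ne', sub_zero]
      exact mem_pos hj a.2

theorem proj_zero_pos {x : R} (hx : x ∈ pos 𝒜) : (decompose 𝒜 x 0 : R) = 0 := by
  refine Submodule.span_induction (p := fun y _ => ∀ s : R, (decompose 𝒜 (y * s) 0 : R) = 0)
    ?_ ?_ ?_ ?_ hx 1 |> fun e => by rwa [mul_one] at e
  · rintro y ⟨n, hn, hy⟩ s
    rw [proj_mul s hy, h.eq_zero (by omega) (Submodule.coe_mem _), mul_zero]
  · intro s; simp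
  · intro a b _ _ ha hb s
    rw [add_mul, decompose_add, DirectSum.add_apply, Submodule.coe_add, ha, hb, add_zero]
  · intro r a _ ha s
    rw [smul_eq_mul, show r * a * s = a * (r * s) by ring, ha]

theorem isMaximal_pos [Nontrivial R] : (pos 𝒜).IsMaximal := by
  rw [Ideal.isMaximal_iff]
  refine ⟨fun h1 => ?_, fun J x hle hx hxJ => ?_⟩
  · have := h.proj_zero_pos h1
    rw [decompose_of_mem_same 𝒜 (SetLike.one_mem_graded 𝒜)] at this
    exact one_ne_zero this
  · obtain ⟨c, hc⟩ := h.exists_scalar (Submodule.coe_mem (decompose 𝒜 x 0))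
    have hc0 : c ≠ 0 := by
      rintro rfl
      rw [zero_smul] at hc
      exact hx (by simpa [← hc] using h.sub_mem_pos x)
    have h1 : (decompose 𝒜 x 0 : R) ∈ J := by
      simpa using J.sub_mem hxJ (hle (h.sub_mem_pos x))
    rw [← hc] at h1
    have := J.smul_of_tower_mem c⁻¹ h1
    rwa [smul_smul, inv_mul_cancel₀ hc0, one_smul] at this

theorem le_pos {q : Ideal R} (hq : q.IsHomogeneous 𝒜) (hne : q ≠ ⊤) : q ≤ pos 𝒜 := by
  intro x hx
  have h0 : (decompose 𝒜 x 0 : R) ∈ q := hq 0 hx
  obtain ⟨c, hc⟩ := h.exists_scalar (Submodule.coe_mem (decompose 𝒜 x 0))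
  by_cases hc0 : c = 0
  · subst hc0
    rw [zero_smul] at hc
    simpa [← hc] using h.sub_mem_pos x
  · exfalso
    rw [← hc] at h0
    have := q.smul_of_tower_mem c⁻¹ h0
    rw [smul_smul, inv_mul_cancel₀ hc0, one_smul] at this
    exact hne ((Ideal.eq_top_iff_one _).2 this)

/-- Homogeneous prime avoidance. -/
theorem exists_avoid (S : Finset (Ideal R))
    (hS : ∀ p ∈ S, p.IsPrime ∧ p.IsHomogeneous 𝒜 ∧ ¬ pos 𝒜 ≤ p) :
    ∃ (f : R) (e : ℤ), 0 < e ∧ f ∈ 𝒜 e ∧ ∀ p ∈ S, f ∉ p := by
  classical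
  induction S using Finset.strongInduction with
  | H S ih =>
    rcases S.eq_empty_or_nonempty with rfl | hne
    · exact ⟨0, 1, one_pos, zero_mem _, by simp⟩
    obtain ⟨p, hp, hmin⟩ := S.exists_minimal hne
    obtain ⟨hpp, hph, hpo⟩ := hS p hp
    obtain ⟨f, e, he, hfe, hf⟩ := ih (S.erase p) (Finset.erase_ssubset hp)
      fun q hq => hS q (Finset.mem_of_mem_erase hq)
    by_cases hfp : f ∈ p
    swap
    · refine ⟨f, e, he, hfe, fun q hq => ?_⟩
      rcases eq_or_ne q p with rfl | hqp
      · exact hfp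
      · exact hf q (Finset.mem_erase.2 ⟨hqp, hq⟩)
    obtain ⟨y, ⟨d, hd, hyd⟩, hyp⟩ : ∃ y, (∃ n : ℤ, 0 < n ∧ y ∈ 𝒜 n) ∧ y ∉ p := by
      by_contra hcon
      push Not at hcon
      exact hpo (Ideal.span_le.2 fun x hx => hcon x hx)
    have key : ∀ T ⊆ S.erase p, ∃ (g : R) (m : ℤ), 0 ≤ m ∧ g ∈ 𝒜 m ∧ g ∉ p ∧ ∀ q ∈ T, g ∈ q := by
      intro T hT
      induction T using Finset.induction with
      | empty =>
        exact ⟨1, 0, le_rfl, SetLike.one_mem_graded 𝒜,
          fun h1 => hpp.ne_top ((Ideal.eq_top_iff_one _).2 h1), by simp⟩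
      | insert q T _ iht =>
        obtain ⟨g, m, hm, hgm, hgp, hg⟩ := iht ((Finset.subset_insert q T).trans hT)
        obtain ⟨hqp, hqS⟩ := Finset.mem_erase.1 (hT (Finset.mem_insert_self q T))
        obtain ⟨i, x, hx, hxq, hxp⟩ : ∃ (i : ℤ) (x : R), x ∈ 𝒜 i ∧ x ∈ q ∧ x ∉ p := by
          by_contra hcon
          push Not at hcon
          refine hqp (le_antisymm ?_ (hmin hqS ?_))
          all_goals
            intro x hx
            rw [← DirectSum.sum_support_decompose 𝒜 x]
            exact p.sum_mem fun i _ => hcon i _ (Submodule.coe_mem _) ((hS q hqS).2.1 i hx)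
        have hi : 0 ≤ i := by
          by_contra hi
          exact hxp ((h.eq_zero (by omega) hx) ▸ p.zero_mem)
        refine ⟨g * x, m + i, by omega, SetLike.GradedMul.mul_mem hgm hx,
          fun hgx => (hpp.mem_or_mem hgx).elim hgp hxp, fun q' hq' => ?_⟩
        rcases Finset.mem_insert.1 hq' with rfl | hq'
        · exact q'.mul_mem_left _ hxq
        · exact q'.mul_mem_right _ (hg q' hq')
    obtain ⟨g, m, hm, hgm, hgp, hg⟩ := key _ subset_rfl
    have hG : g * y ∈ 𝒜 (m + d) := SetLike.GradedMul.mul_mem hgm hyd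
    have ha : 0 < (m + d).toNat := by omega
    have hb : 0 < e.toNat := by omega
    refine ⟨f ^ (m + d).toNat + (g * y) ^ e.toNat, e * (m + d), mul_pos he (by omega),
      add_mem ?_ ?_, fun q hq hmem => ?_⟩
    · have := SetLike.pow_mem_graded (m + d).toNat hfe
      rwa [nsmul_eq_mul, Int.toNat_of_nonneg (by omega), mul_comm] at this
    · have := SetLike.pow_mem_graded e.toNat hG
      rwa [nsmul_eq_mul, Int.toNat_of_nonneg he.le] at this
    · obtain ⟨hqp', -, -⟩ := hS q hq
      rcases eq_or_ne q p with rfl | hqp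
      · have := (Ideal.add_mem_iff_right q (q.pow_mem_of_mem hfp _ ha)).1 hmem
        rcases hpp.mem_or_mem (hpp.mem_of_pow_mem _ this) with h' | h'
        · exact hgp h'
        · exact hyp h'
      · have hq' := Finset.mem_erase.2 ⟨hqp, hq⟩
        have := (Ideal.add_mem_iff_left q
          (q.pow_mem_of_mem (q.mul_mem_right _ (hg q hq')) _ hb)).1 hmem
        exact hf q hq' (hqp'.mem_of_pow_mem _ this)

omit h in
theorem isHomogeneous_of_minimal {I p : Ideal R} (hI : I.IsHomogeneous 𝒜)
    (hp : p ∈ I.minimalPrimes) : p.IsHomogeneous 𝒜 := by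
  have hcore := Ideal.IsPrime.homogeneousCore (𝒜 := 𝒜) hp.1.1
  have hle := Ideal.toIdeal_homogeneousCore_le 𝒜 p
  have hI' : I ≤ (p.homogeneousCore 𝒜).toIdeal :=
    hI.toIdeal_homogeneousCore_eq_self.symm.trans_le (Ideal.homogeneousCore_mono 𝒜 hp.1.2)
  rw [le_antisymm (hp.2 ⟨hcore, hI'⟩ hle) hle]
  exact (p.homogeneousCore 𝒜).isHomogeneous

variable [IsNoetherianRing R] [Nontrivial R]

/-- Systems of parameters. -/
theorem exists_params (m : ℕ) : ∀ I : Ideal R, I.IsHomogeneous 𝒜 →
    (∀ l : LTSeries (PrimeSpectrum R), I ≤ l.head.asIdeal → l.last.asIdeal ≤ pos 𝒜 →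
      l.length ≤ m) →
    ∃ f : Fin m → R, ∃ e : Fin m → ℤ, (∀ i, 0 < e i ∧ f i ∈ 𝒜 (e i)) ∧
      pos 𝒜 ≤ (I ⊔ Ideal.span (Set.range f)).radical := by
  classical
  induction m with
  | zero =>
    intro I hI hdim
    refine ⟨Fin.elim0, Fin.elim0, fun i => i.elim0, ?_⟩
    rw [Ideal.radical_eq_sInf]
    refine le_sInf ?_
    rintro J ⟨hIJ, hJ⟩
    obtain ⟨p, hp, hpJ⟩ := Ideal.exists_minimalPrimes_le (le_sup_left.trans hIJ : I ≤ J)
    have hpos : p ≤ pos 𝒜 := h.le_pos (isHomogeneous_of_minimal hI hp) hp.1.1.ne_top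
    rcases hpos.eq_or_lt with rfl | hlt
    · exact hpJ
    · exfalso
      let a : PrimeSpectrum R := ⟨p, hp.1.1⟩
      let b : PrimeSpectrum R := ⟨pos 𝒜, h.isMaximal_pos.isPrime⟩
      let l : LTSeries (PrimeSpectrum R) := (RelSeries.singleton _ b).cons a hlt
      have hhead : l.head = a := rfl
      have hlen : l.length = 1 := rfl
      have hlast : l.last = b := rfl
      have := hdim l (by rw [hhead]; exact hp.1.2) (by rw [hlast])
      omega
  | succ m ih =>
    intro I hI hdim
    obtain ⟨f₀, e₀, he₀, hf₀, havoid⟩ := h.exists_avoid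
      ((I.finite_minimalPrimes_of_isNoetherianRing R).toFinset.filter fun p => ¬ pos 𝒜 ≤ p)
      (fun p hp => by
        simp only [Finset.mem_filter, Set.Finite.mem_toFinset] at hp
        exact ⟨hp.1.1.1, isHomogeneous_of_minimal hI hp.1, hp.2⟩)
    have hI' : (I ⊔ Ideal.span {f₀}).IsHomogeneous 𝒜 := hI.sup (Ideal.homogeneous_span 𝒜 _ (by
      rintro x rfl; exact ⟨e₀, hf₀⟩))
    obtain ⟨f, e, hfe, hrad⟩ := ih _ hI' fun l hl hlpos => by
      have := l.head.isPrime
      obtain ⟨p, hp, hpq⟩ := Ideal.exists_minimalPrimes_le (le_sup_left.trans hl : I ≤ l.head.asIdeal)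
      by_cases hpo : pos 𝒜 ≤ p
      · by_contra hlen
        have hpos : 0 < l.length := by omega
        have hlt : l.head < l.toFun ⟨1, by omega⟩ := l.strictMono (by
          rw [Fin.lt_def]; simp)
        have hmax := h.isMaximal_pos
        have h1 := hmax.eq_of_le l.head.isPrime.ne_top (hpo.trans hpq)
        have h2 := hmax.eq_of_le (l.toFun ⟨1, by omega⟩).isPrime.ne_top
          ((hpo.trans hpq).trans hlt.le)
        exact hlt.ne (PrimeSpectrum.ext (h1.symm.trans h2))
      · have hne : p ≠ l.head.asIdeal := fun he => havoid p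
          (by simp only [Finset.mem_filter, Set.Finite.mem_toFinset]; exact ⟨hp, hpo⟩)
          (he ▸ hl (Ideal.mem_sup_right (Ideal.mem_span_singleton_self f₀)))
        let a : PrimeSpectrum R := ⟨p, hp.1.1⟩
        have hlt : a < l.head := lt_of_le_of_ne hpq fun he => hne (congrArg PrimeSpectrum.asIdeal he)
        have := hdim (l.cons a hlt) (by simpa [a] using hp.1.2) (by simpa using hlpos)
        simpa using this
    refine ⟨Fin.cons f₀ f, Fin.cons e₀ e, Fin.cases ⟨he₀, hf₀⟩ hfe, ?_⟩
    rw [Fin.range_cons, Set.insert_eq, Ideal.span_union, ← sup_assoc]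
    exact hrad

omit [IsNoetherianRing R] [Nontrivial R] in
set_option maxHeartbeats 1000000 in
/-- Finiteness over parameters. -/
theorem exists_spanning_sup [Algebra.FiniteType k R] {I : Ideal R} (hI : I.IsHomogeneous 𝒜)
    {ι : Type*} [Fintype ι] (f : ι → R) {D : ℤ}
    (hD : 0 < D) (hf : ∀ i, f i ∈ 𝒜 D) (hrad : pos 𝒜 ≤ (I ⊔ Ideal.span (Set.range f)).radical) :
    ∃ M : Finset R, (∀ m ∈ M, ∃ n, m ∈ 𝒜 n) ∧
      Submodule.span k {x : R | ∃ (a : ι → ℕ), ∃ m ∈ M, x = (∏ i, f i ^ a i) * m} ⊔
        I.restrictScalars k = ⊤ := by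
  classical
  set J := I ⊔ Ideal.span (Set.range f) with hJ
  have : Algebra.IsIntegral k (R ⧸ J) := ⟨fun x => by
    obtain ⟨x, rfl⟩ := Ideal.Quotient.mk_surjective x
    induction x using DirectSum.Decomposition.inductionOn 𝒜 with
    | zero => rw [map_zero]; exact isIntegral_zero
    | add a b ha hb => rw [map_add]; exact ha.add hb
    | @homogeneous j a =>
      rcases lt_trichotomy j 0 with hj | hj | hj
      · rw [h.eq_zero hj a.2, map_zero]; exact isIntegral_zero
      · subst hj
        obtain ⟨c, hc⟩ := h.exists_scalar a.2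
        rw [← hc, ← Algebra.algebraMap_eq_smul_one, Ideal.Quotient.mk_algebraMap]
        exact isIntegral_algebraMap
      · obtain ⟨N, hN⟩ := hrad (mem_pos hj a.2)
        refine IsIntegral.of_pow (n := N + 1) (Nat.succ_pos _) ?_
        rw [← map_pow, Ideal.Quotient.eq_zero_iff_mem.2 (by rw [pow_succ]; exact J.mul_mem_right _ hN)]
        exact isIntegral_zero⟩
  have : Module.Finite k (R ⧸ J) := Algebra.IsIntegral.finite
  obtain ⟨G, hG⟩ := Module.finite_def.1 this
  choose lift hlift using (Ideal.Quotient.mk_surjective (I := J))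
  let M : Finset R := G.biUnion fun g => (decompose 𝒜 (lift g)).support.image
    fun n => (decompose 𝒜 (lift g) n : R)
  refine ⟨M, fun m hm => ?_, ?_⟩
  · simp only [M, Finset.mem_biUnion, Finset.mem_image] at hm
    obtain ⟨g, -, n, -, rfl⟩ := hm
    exact ⟨n, Submodule.coe_mem _⟩
  set V := Submodule.span k {x : R | ∃ (a : ι → ℕ), ∃ m ∈ M, x = (∏ i, f i ^ a i) * m}
  have hM : ∀ m ∈ M, m ∈ V := fun m hm => Submodule.subset_span ⟨0, m, hm, by simp⟩
  have hmul : ∀ i, ∀ x ∈ V, f i * x ∈ V := by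
    intro i x hx
    induction hx using Submodule.span_induction with
    | mem y hy =>
      obtain ⟨a, m, hm, rfl⟩ := hy
      refine Submodule.subset_span ⟨a + Pi.single i 1, m, hm, ?_⟩
      simp only [Pi.add_apply, pow_add, Finset.prod_mul_distrib]
      rw [Finset.prod_eq_single i (fun j _ hj => by simp [hj]) (by simp) (f := fun j =>
        f j ^ (Pi.single i 1 : ι → ℕ) j)]
      simp
      ring
    | zero => simp
    | add a b _ _ ha hb => rw [mul_add]; exact add_mem ha hb
    | smul c y _ hy => rw [mul_smul_comm]; exact Submodule.smul_mem _ c hy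
  have hmulI : ∀ i, ∀ x ∈ V ⊔ I.restrictScalars k, f i * x ∈ V ⊔ I.restrictScalars k := by
    intro i x hx
    obtain ⟨v, hv, y, hy, rfl⟩ := Submodule.mem_sup.1 hx
    rw [mul_add]
    exact add_mem (Submodule.mem_sup_left (hmul i v hv)) (Submodule.mem_sup_right (I.mul_mem_left (f i) hy))
  have hred : ∀ x : R, ∃ v ∈ Submodule.span k (M : Set R), x - v ∈ J := by
    intro x
    have hx : Ideal.Quotient.mkₐ k J x ∈
        (Submodule.span k (M : Set R)).map (Ideal.Quotient.mkₐ k J).toLinearMap := by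
      have : (⊤ : Submodule k (R ⧸ J)) ≤
          (Submodule.span k (M : Set R)).map (Ideal.Quotient.mkₐ k J).toLinearMap := by
        rw [← hG, Submodule.span_le]
        intro g hg
        refine ⟨lift g, ?_, hlift g⟩
        rw [← DirectSum.sum_support_decompose 𝒜 (lift g)]
        exact Submodule.sum_mem _ fun n hn => Submodule.subset_span (by
          simp only [M, Finset.coe_biUnion, Set.mem_iUnion, Finset.coe_image, Set.mem_image]
          exact ⟨g, hg, n, hn, rfl⟩)
      exact this Submodule.mem_top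
    obtain ⟨v, hv, hvx⟩ := hx
    exact ⟨v, hv, (Ideal.Quotient.mk_eq_mk_iff_sub_mem _ _).1 hvx.symm⟩
  have key : ∀ n : ℤ, ∀ a ∈ 𝒜 n, a ∈ V ⊔ I.restrictScalars k := by
    intro n
    induction hn : n.toNat using Nat.strong_induction_on generalizing n with
    | _ N ihN =>
      intro a ha
      rcases lt_or_ge n 0 with hn0 | hn0
      · rw [h.eq_zero hn0 ha]; exact zero_mem _
      obtain ⟨v, hv, hva⟩ := hred a
      obtain ⟨i₀, hi₀, y, hy, hiy⟩ := Submodule.mem_sup.1 hva
      obtain ⟨c, hc⟩ := Ideal.mem_span_range_iff_exists_fun.1 hy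
      have hdec : a = (decompose 𝒜 i₀ n : R) + ((decompose 𝒜 v n : R) +
          ∑ i, f i * (decompose 𝒜 (c i) (n - D) : R)) := by
        have hsum : i₀ + (v + ∑ i, f i * c i) = a := by
          rw [Finset.sum_congr rfl fun i _ => mul_comm (f i) (c i), hc]; linear_combination hiy
        conv_lhs => rw [← decompose_of_mem_same 𝒜 ha, ← hsum]
        rw [decompose_add, DirectSum.add_apply, Submodule.coe_add, decompose_add, DirectSum.add_apply, Submodule.coe_add, decompose_sum,
          DFinsupp.finsetSum_apply, AddSubmonoidClass.coe_finsetSum]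
        exact congrArg _ (congrArg _ (Finset.sum_congr rfl fun i _ => proj_mul (c i) (hf i) n))
      rw [hdec]
      refine add_mem (Submodule.mem_sup_right (hI n hi₀))
        (add_mem ?_ (Submodule.sum_mem _ fun i _ => hmulI i _ ?_))
      · refine Submodule.mem_sup_left ?_
        clear hdec hva hc hiy
        induction hv using Submodule.span_induction with
        | mem m hm =>
          simp only [M, Finset.coe_biUnion, Set.mem_iUnion, Finset.coe_image, Set.mem_image] at hm
          obtain ⟨g, hg, j, hj, rfl⟩ := hm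
          rcases eq_or_ne j n with rfl | hne
          · rw [decompose_of_mem_same 𝒜 (Submodule.coe_mem _)]
            exact hM _ (by simp only [M, Finset.mem_biUnion, Finset.mem_image]; exact ⟨g, hg, j, hj, rfl⟩)
          · rw [decompose_of_mem_ne 𝒜 (Submodule.coe_mem _) hne]; exact zero_mem _
        | zero => simp
        | add x y _ _ hx hy =>
          rw [decompose_add, DirectSum.add_apply, Submodule.coe_add]; exact add_mem hx hy
        | smul c x _ hx =>
          rw [decompose_smul, DirectSum.smul_apply, Submodule.coe_smul]; exact Submodule.smul_mem _ c hx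
      · rcases lt_or_ge (n - D) 0 with hlt | hge
        · rw [h.eq_zero hlt (Submodule.coe_mem _)]; exact zero_mem _
        · exact ihN _ (by omega) (n - D) rfl _ (Submodule.coe_mem _)
  rw [eq_top_iff]
  intro x _
  induction x using DirectSum.Decomposition.inductionOn 𝒜 with
  | zero => exact zero_mem _
  | add a b ha hb => exact add_mem (ha trivial) (hb trivial)
  | @homogeneous j a => exact key j a a.2

omit [IsNoetherianRing R] [Nontrivial R] in
/-- Finiteness over parameters. -/
theorem exists_spanning [Algebra.FiniteType k R] {ι : Type*} [Fintype ι] (f : ι → R) {D : ℤ}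
    (hD : 0 < D) (hf : ∀ i, f i ∈ 𝒜 D) (hrad : pos 𝒜 ≤ (Ideal.span (Set.range f)).radical) :
    ∃ M : Finset R, (∀ m ∈ M, ∃ n, m ∈ 𝒜 n) ∧
      Submodule.span k {x : R | ∃ (a : ι → ℕ), ∃ m ∈ M, x = (∏ i, f i ^ a i) * m} = ⊤ := by
  obtain ⟨M, hM, hs⟩ := h.exists_spanning_sup (Ideal.IsHomogeneous.bot 𝒜) f hD hf (by rwa [bot_sup_eq])
  exact ⟨M, hM, by simpa using hs⟩

end IsStd

end Groth.Agent.SegreDim
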