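import Groth.Agent.SegreDim.Segre
import Mathlib.RingTheory.Nullstellensatz
import Mathlib.RingTheory.MvPolynomial.WeightedHomogeneous
import Mathlib.RingTheory.IntegralClosure.Algebra.Basic
import Mathlib.LinearAlgebra.FiniteDimensional.Basic

/-! Hopf's inequality for nondegenerate bilinear maps over algebraically closed fields. -/

namespace Groth.Agent.SegreDim

open MvPolynomial

universe u

variable {k : Type u} [Field k] {r s w : ℕ}

/-- Bidegree weights. -/
def biwt : Fin r ⊕ Fin s → ℕ × ℕ := Sum.elim (fun _ => (1, 0)) (fun _ => (0, 1))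

theorem weight_biwt (d : Fin r ⊕ Fin s →₀ ℕ) :
    Finsupp.weight biwt d = (∑ i, d (Sum.inl i), ∑ j, d (Sum.inr j)) := by
  rw [Finsupp.weight_apply, Finsupp.sum_fintype]
  · simp [Fintype.sum_sum_type, biwt, Prod.ext_iff, Prod.fst_sum, Prod.snd_sum]
  · intro; simp

theorem le_of_forall_ne_zero [IsAlgClosed k] (c : Fin w → Fin (r + 1) → Fin (s + 1) → k)
    (hc : ∀ a : Fin (r + 1) → k, ∀ b : Fin (s + 1) → k,
      (∀ l, ∑ i, ∑ j, c l i j * (a i * b j) = 0) → a = 0 ∨ b = 0) :
    r + s + 1 ≤ w := by
  classical
  let P := MvPolynomial (Fin (r + 1) ⊕ Fin (s + 1)) k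
  set A := segreAlg k (r + 1) (s + 1)
  let z : Fin (r + 1) → Fin (s + 1) → P := fun i j => X (Sum.inl i) * X (Sum.inr j)
  let q : Fin w → P := fun l => ∑ i, ∑ j, c l i j • z i j
  have hzA : ∀ i j, z i j ∈ A := fun i j => Algebra.subset_adjoin ⟨(i, j), rfl⟩
  have hqA : ∀ l, q l ∈ A := fun l => sum_mem fun i _ => sum_mem fun j _ => A.smul_mem (hzA i j) _
  have hzhom : ∀ i j, IsWeightedHomogeneous biwt (z i j) ((1, 1) : ℕ × ℕ) := fun i j => by
    have := (isWeightedHomogeneous_X k (biwt (r := r + 1) (s := s + 1)) (Sum.inl i)).mul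
      (isWeightedHomogeneous_X k biwt (Sum.inr j))
    simpa [biwt] using this
  have hqhom : ∀ l, IsWeightedHomogeneous biwt (q l) ((1, 1) : ℕ × ℕ) := fun l => by
    rw [← mem_weightedHomogeneousSubmodule]
    exact sum_mem fun i _ => sum_mem fun j _ => Submodule.smul_mem _ _ ((mem_weightedHomogeneousSubmodule ..).2 (hzhom i j))
  -- nilpotence modulo the forms
  obtain ⟨N, hN⟩ : ∃ N, ∀ i j, z i j ^ N ∈ Ideal.span (Set.range q) := by
    have h : ∀ i j, z i j ∈ (Ideal.span (Set.range q)).radical := by
      intro i j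
      rw [← vanishingIdeal_zeroLocus_eq_radical (K := k)]
      intro x hx
      rw [mem_zeroLocus_iff] at hx
      have := hc (fun i => x (Sum.inl i)) (fun j => x (Sum.inr j)) fun l => by
        simpa [q, z] using hx _ (Ideal.subset_span ⟨l, rfl⟩)
      rcases this with h | h
      · simp [z, show x (Sum.inl i) = 0 from congrFun h i]
      · simp [z, show x (Sum.inr j) = 0 from congrFun h j]
    choose n hn using h
    exact ⟨∑ i, ∑ j, n i j, fun i j => (Ideal.span (Set.range q)).pow_mem_of_pow_mem (hn i j)
      ((Finset.single_le_sum (fun j _ => Nat.zero_le (n i j)) (Finset.mem_univ j)).trans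
        (Finset.single_le_sum (f := fun i => ∑ j, n i j) (fun i _ => Nat.zero_le _) (Finset.mem_univ i)))⟩
  let R0 := MvPolynomial (Fin w) k
  let _ : Algebra R0 P := (aeval q).toRingHom.toAlgebra
  have hsm : ∀ (t : R0) (x : P), t • x = aeval q t * x := fun _ _ => rfl
  set B := N * (r + 1) + N * (s + 1) + 1
  let S : Set (Fin (r + 1) ⊕ Fin (s + 1) →₀ ℕ) :=
    {d | ∃ D < B, Finsupp.weight biwt d = (D, D)}
  have hS : S.Finite := by
    refine ((Set.finite_Iic ((Finsupp.equivFunOnFinite.symm fun _ => B) :
      Fin (r + 1) ⊕ Fin (s + 1) →₀ ℕ))).subset ?_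
    rintro d ⟨D, hD, hd⟩
    rw [weight_biwt] at hd
    simp only [Prod.mk.injEq] at hd
    intro x
    rcases x with i | j
    · have := Finset.single_le_sum (f := fun i => d (Sum.inl i)) (fun _ _ => Nat.zero_le _) (Finset.mem_univ i)
      simp; omega
    · have := Finset.single_le_sum (f := fun i => d (Sum.inr i)) (fun _ _ => Nat.zero_le _) (Finset.mem_univ j)
      simp; omega
  set W : Submodule R0 P := Submodule.span R0 ((fun d => monomial d (1 : k)) '' S)
  have hWsmul : ∀ (t : k) (x : P), x ∈ W → t • x ∈ W := fun t x hx => by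
    rw [smul_eq_C_mul, show C t = aeval q (C t : R0) from ((aeval_C q t).trans rfl).symm, ← hsm]
    exact W.smul_mem _ hx
  have hW : ∀ D, ∀ d, Finsupp.weight biwt d = (D, D) → monomial d (1 : k) ∈ W := by
    intro D
    induction D with
    | zero => exact fun d hd => Submodule.subset_span ⟨d, ⟨0, Nat.succ_pos _, hd⟩, rfl⟩
    | succ D ih =>
      intro d hd
      by_cases hD : D + 1 < B
      · exact Submodule.subset_span ⟨d, ⟨D + 1, hD, hd⟩, rfl⟩
      have hd' := hd
      rw [weight_biwt] at hd'
      simp only [Prod.mk.injEq] at hd'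
      obtain ⟨i, hi⟩ : ∃ i, N ≤ d (Sum.inl i) := by
        by_contra! h
        have := Finset.sum_le_sum (s := (Finset.univ : Finset (Fin (r + 1)))) fun i _ => (h i).le
        simp at this
        rw [mul_comm] at this; omega
      obtain ⟨j, hj⟩ : ∃ j, N ≤ d (Sum.inr j) := by
        by_contra! h
        have := Finset.sum_le_sum (s := (Finset.univ : Finset (Fin (s + 1)))) fun i _ => (h i).le
        simp at this
        rw [mul_comm] at this; omega
      have hle : Finsupp.single (Sum.inl i) N + Finsupp.single (Sum.inr j) N ≤ d := by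
        intro x
        rcases x with i' | j'
        · rcases eq_or_ne i' i with rfl | h
          · simpa using hi
          · simp [Finsupp.single_eq_of_ne, h]
        · rcases eq_or_ne j' j with rfl | h
          · simpa using hj
          · simp [Finsupp.single_eq_of_ne, h]
      have hmon : monomial d (1 : k) = monomial (d - (Finsupp.single (Sum.inl i) N + Finsupp.single (Sum.inr j) N)) 1 * z i j ^ N := by
        have hx : ∀ x, (X x : P) ^ N = monomial (Finsupp.single x N) 1 := fun x => by
          simp [X, monomial_pow]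
        simp only [z, mul_pow]
        rw [hx, hx, monomial_mul, monomial_mul, one_mul, one_mul, tsub_add_cancel_of_le hle]
      obtain ⟨h, hh⟩ := Ideal.mem_span_range_iff_exists_fun.1 (Ideal.mul_mem_left _
        (monomial (d - (Finsupp.single (Sum.inl i) N + Finsupp.single (Sum.inr j) N)) (1 : k)) (hN i j))
      rw [← hmon] at hh
      have hcomp : ∀ (g : P) l, weightedHomogeneousComponent biwt ((D + 1, D + 1) : ℕ × ℕ) (g * q l) =
          weightedHomogeneousComponent biwt ((D, D) : ℕ × ℕ) g * q l := by
        intro g l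
        induction g using MvPolynomial.induction_on' with
        | monomial e t =>
          have hm : IsWeightedHomogeneous biwt (monomial e t * q l) (Finsupp.weight biwt e + ((1, 1) : ℕ × ℕ)) :=
            (isWeightedHomogeneous_monomial _ _ _ rfl).mul (hqhom l)
          have hme : IsWeightedHomogeneous biwt (monomial e t : P) (Finsupp.weight biwt e) :=
            isWeightedHomogeneous_monomial _ _ _ rfl
          by_cases he : Finsupp.weight biwt e = ((D, D) : ℕ × ℕ)
          · have hme' := hme
            rw [he] at hme'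
            rw [hme'.weightedHomogeneousComponent_same,
              (show IsWeightedHomogeneous biwt (monomial e t * q l) ((D + 1, D + 1) : ℕ × ℕ) by
                simpa [he] using hm).weightedHomogeneousComponent_same]
          · rw [hme.weightedHomogeneousComponent_ne _ (Ne.symm he), zero_mul,
              hm.weightedHomogeneousComponent_ne _ (fun h' => he ?_)]
            simp only [Prod.ext_iff, Prod.fst_add, Prod.snd_add] at h' ⊢
            omega
        | add p p' hp hp' => rw [add_mul, map_add, hp, hp', map_add, add_mul]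
      have : monomial d (1 : k) = ∑ l, weightedHomogeneousComponent biwt ((D, D) : ℕ × ℕ) (h l) * q l := by
        rw [← (isWeightedHomogeneous_monomial biwt d (1 : k) hd).weightedHomogeneousComponent_same, ← hh,
          map_sum]
        exact Finset.sum_congr rfl fun l _ => hcomp _ _
      rw [this]
      refine Submodule.sum_mem _ fun l _ => ?_
      have hX : ∀ x : P, x * q l = (X l : R0) • x := fun x => by rw [hsm, aeval_X, mul_comm]
      rw [hX]
      refine W.smul_mem _ ?_
      set G := weightedHomogeneousComponent biwt ((D, D) : ℕ × ℕ) (h l)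
      rw [G.as_sum]
      refine Submodule.sum_mem _ fun e he => ?_
      rw [← mul_one (coeff e G), ← smul_eq_mul, ← smul_monomial]
      exact hWsmul _ _ (ih e (weightedHomogeneousComponent_isWeightedHomogeneous _ _ (mem_support_iff.1 he)))
  -- the algebra is finite over the forms
  let qA : Fin w → A := fun l => ⟨q l, hqA l⟩
  let _ : Algebra R0 A := (aeval qA).toRingHom.toAlgebra
  have hval : ∀ t : R0, ((aeval qA t : A) : P) = aeval q t := fun t => by
    show A.val (aeval qA t) = _
    rw [← AlgHom.comp_apply, comp_aeval]; rfl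
  let ι : A →ₗ[R0] P :=
    { toFun := Subtype.val, map_add' := fun _ _ => rfl
      map_smul' := fun t x => by
        show ((aeval qA t * x : A) : P) = aeval q t * (x : P)
        rw [Subalgebra.coe_mul, hval] }
  have hAW : ∀ x : A, (x : P) ∈ W := by
    rintro ⟨x, hx⟩
    suffices h : x ∈ Submodule.span k ((fun d => monomial d (1 : k)) '' {d : Fin (r + 1) ⊕ Fin (s + 1) →₀ ℕ | ∃ D, Finsupp.weight biwt d = (D, D)}) by
      show x ∈ W
      clear hx
      induction h using Submodule.span_induction with
      | mem y hy => obtain ⟨d, ⟨D, hD⟩, rfl⟩ := hy; exact hW D d hD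
      | zero => exact zero_mem _
      | add a b _ _ ha hb => exact add_mem ha hb
      | smul t y _ hy => exact hWsmul t _ hy
    induction hx using Algebra.adjoin_induction with
    | mem y hy =>
      obtain ⟨⟨i, j⟩, rfl⟩ := hy
      refine Submodule.subset_span ⟨Finsupp.single (Sum.inl i) 1 + Finsupp.single (Sum.inr j) 1, ⟨1, ?_⟩, ?_⟩
      · simp [map_add, biwt, Finsupp.weight_single]
      · simp [X, monomial_mul]
    | algebraMap t =>
      rw [algebraMap_eq, show C t = t • monomial 0 (1 : k) by rw [smul_monomial, smul_eq_mul, mul_one]; rfl]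
      exact Submodule.smul_mem _ _ (Submodule.subset_span ⟨0, ⟨0, by rw [map_zero]; rfl⟩, rfl⟩)
    | add a b _ _ ha hb => exact add_mem ha hb
    | mul a b _ _ ha hb =>
      have hab := Submodule.mul_mem_mul ha hb
      rw [Submodule.span_mul_span] at hab
      refine Submodule.span_mono ?_ hab
      rintro _ ⟨_, ⟨d, ⟨D, hD⟩, rfl⟩, _, ⟨e, ⟨E, hE⟩, rfl⟩, rfl⟩
      exact ⟨d + e, ⟨D + E, by rw [map_add, hD, hE]; rfl⟩, by simp [monomial_mul]⟩
  have : IsNoetherianRing R0 := inferInstance
  have : Module.Finite R0 W := Module.Finite.iff_fg.2 (Submodule.fg_span (hS.image _))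
  have : IsNoetherian R0 W := isNoetherian_of_isNoetherianRing_of_finite R0 W
  have : Module.Finite R0 A := Module.Finite.of_injective (ι.codRestrict W hAW)
    (fun a b h => Subtype.ext (congrArg (fun x : W => (x : P)) h : (a : P) = (b : P)))
  let J := (⊥ : Ideal A).comap (algebraMap R0 A)
  let _ : Algebra (R0 ⧸ J) A := (Ideal.Quotient.lift J (algebraMap R0 A) fun a ha => ha).toAlgebra
  have : Algebra.IsIntegral (R0 ⧸ J) A := ⟨fun x => by
    obtain ⟨p, hp, hp0⟩ := Algebra.IsIntegral.isIntegral (R := R0) x
    refine ⟨p.map (Ideal.Quotient.mk J), hp.map _, ?_⟩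
    rw [Polynomial.eval₂_map]
    exact hp0⟩
  have h1 := DimTrdeg.ringKrullDim_eq_of_isIntegral (R0 ⧸ J) A (by
    rw [injective_iff_map_eq_zero]
    intro x hx
    obtain ⟨t, rfl⟩ := Ideal.Quotient.mk_surjective x
    exact Ideal.Quotient.eq_zero_iff_mem.2 hx)
  have h2 : ringKrullDim (R0 ⧸ J) ≤ (w : WithBot ℕ∞) := by
    refine (ringKrullDim_quotient_le _).trans ?_
    simp [R0, MvPolynomial.ringKrullDim_of_isNoetherianRing, ringKrullDim_eq_zero_of_field]
  rw [← h1, dim_segreAlg] at h2
  exact_mod_cast h2

end Groth.Agent.SegreDim
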