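import Groth.Agent.SegreDim.Segre
import Mathlib.RingTheory.KrullDimension.Module
import Mathlib.RingTheory.IntegralClosure.Algebra.Basic
import Mathlib.RingTheory.Artinian.Module
import Mathlib.Algebra.Module.GradedModule

/-! Parameters for finitely generated graded modules. -/

namespace Groth.Agent.SegreDim

open DirectSum MvPolynomial

universe u

/-- The dimension of a module finite over a subalgebra image. -/
theorem supportDim_eq_of_finite {A T P : Type u} [CommRing A] [CommRing T] [Algebra A T]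
    [AddCommGroup P] [Module A P] [Module T P] [IsScalarTower A T P] [Module.Finite A P] :
    Module.supportDim T P = ringKrullDim (A ⧸ Module.annihilator A P) := by
  have : Module.Finite T P := Module.Finite.of_restrictScalars_finite A T P
  rw [Module.supportDim_eq_ringKrullDim_quotient_annihilator]
  have hc : Module.annihilator A P = (Module.annihilator T P).comap (algebraMap A T) := by
    ext a
    simp [Module.mem_annihilator, Ideal.mem_comap, algebraMap_smul]
  rw [hc]
  set J := Module.annihilator T P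
  let _ : Algebra (A ⧸ J.comap (algebraMap A T)) (T ⧸ J) :=
    (Ideal.quotientMap J (algebraMap A T) le_rfl).toAlgebra
  have : IsScalarTower A (A ⧸ J.comap (algebraMap A T)) (T ⧸ J) :=
    IsScalarTower.of_algebraMap_eq fun _ => rfl
  have : Algebra.IsIntegral A (T ⧸ J) := ⟨fun x => by
    obtain ⟨t, rfl⟩ := Ideal.Quotient.mk_surjective x
    obtain ⟨p, hp, hpt⟩ := LinearMap.exists_monic_and_aeval_eq_zero A
      (Algebra.lsmul A A P t : Module.End A P)
    refine ⟨p, hp, ?_⟩
    rw [← Polynomial.aeval_def, ← Ideal.Quotient.mkₐ_eq_mk A, Polynomial.aeval_algHom_apply,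
      Ideal.Quotient.mkₐ_eq_mk, Ideal.Quotient.eq_zero_iff_mem, Module.mem_annihilator]
    intro y
    rw [Polynomial.aeval_algHom_apply] at hpt
    exact LinearMap.congr_fun hpt y⟩
  have : Algebra.IsIntegral (A ⧸ J.comap (algebraMap A T)) (T ⧸ J) :=
    Algebra.IsIntegral.tower_top A
  exact DimTrdeg.ringKrullDim_eq_of_isIntegral (A ⧸ J.comap (algebraMap A T)) (T ⧸ J)
    Ideal.quotientMap_injective

variable {k : Type u} [Field k] {R : Type u} [CommRing R] [Algebra k R]
  {𝒜 : ℤ → Submodule k R} [GradedAlgebra 𝒜]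
  {M : Type u} [AddCommGroup M] [Module R M] [Module k M] [IsScalarTower k R M]
  {ℳ : ℤ → AddSubgroup M} [DirectSum.Decomposition ℳ] [SetLike.GradedSMul 𝒜 ℳ]

omit [Module k M] [IsScalarTower k R M] in
theorem proj_smulM {e : ℤ} {a : R} (ha : a ∈ 𝒜 e) (x : M) (d : ℤ) :
    (decompose ℳ (a • x) d : M) = a • (decompose ℳ x (d - e) : M) := by
  induction x using DirectSum.Decomposition.inductionOn ℳ with
  | zero => simp
  | add u v hu hv =>
    rw [smul_add, decompose_add, DirectSum.add_apply, AddSubgroup.coe_add, hu, hv, decompose_add,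
      DirectSum.add_apply, AddSubgroup.coe_add, smul_add]
  | @homogeneous j x =>
    have hmem : a • (x : M) ∈ ℳ (e + j) := SetLike.GradedSMul.smul_mem ha x.2
    by_cases h : d = e + j
    · subst h
      rw [decompose_of_mem_same ℳ hmem, show e + j - e = j by ring, decompose_of_mem_same ℳ x.2]
    · rw [decompose_of_mem_ne ℳ hmem (Ne.symm h), decompose_of_mem_ne ℳ x.2 (by omega), smul_zero]

omit [Module k M] [IsScalarTower k R M] in
theorem proj_smul_right (s : R) {e : ℤ} {x : M} (hx : x ∈ ℳ e) (d : ℤ) :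
    (decompose ℳ (s • x) d : M) = (decompose 𝒜 s (d - e) : R) • x := by
  induction s using DirectSum.Decomposition.inductionOn 𝒜 with
  | zero => simp
  | add a b ha hb =>
    rw [add_smul, decompose_add, DirectSum.add_apply, AddSubgroup.coe_add, ha, hb, decompose_add,
      DirectSum.add_apply, Submodule.coe_add, add_smul]
  | @homogeneous j a =>
    have hmem : (a : R) • x ∈ ℳ (j + e) := SetLike.GradedSMul.smul_mem a.2 hx
    by_cases h : d = j + e
    · subst h
      rw [decompose_of_mem_same ℳ hmem, show j + e - e = j by ring, decompose_of_mem_same 𝒜 a.2]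
    · rw [decompose_of_mem_ne ℳ hmem (Ne.symm h), decompose_of_mem_ne 𝒜 a.2 (by omega), zero_smul]

include 𝒜 in
theorem ksmul_mem {n : ℤ} {x : M} (hx : x ∈ ℳ n) (c : k) : c • x ∈ ℳ n := by
  have h := SetLike.GradedSMul.smul_mem (A := 𝒜) (B := ℳ)
    (SetLike.algebraMap_mem_graded 𝒜 c) hx
  rwa [algebraMap_smul, vadd_eq_add, zero_add] at h

include 𝒜 in
theorem proj_ksmul (c : k) (x : M) (n : ℤ) :
    (decompose ℳ (c • x) n : M) = c • (decompose ℳ x n : M) := by
  rw [← algebraMap_smul R c x, proj_smulM (SetLike.algebraMap_mem_graded 𝒜 c), sub_zero,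
    algebraMap_smul]

omit [Module k M] [IsScalarTower k R M] in
include ℳ in
theorem isHomogeneous_annihilator : (Module.annihilator R M).IsHomogeneous 𝒜 := by
  intro i a ha
  rw [Module.mem_annihilator] at ha ⊢
  intro x
  induction x using DirectSum.Decomposition.inductionOn ℳ with
  | zero => rw [smul_zero]
  | add u v hu hv => rw [smul_add, hu, hv, add_zero]
  | @homogeneous j x =>
    have h := proj_smul_right (𝒜 := 𝒜) a x.2 (i + j)
    rw [ha, decompose_zero, show i + j - j = i by ring] at h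
    simpa using h.symm

variable (k) in
/-- `x` is not killed by any nonzero polynomial in `f`. -/
def NonTors {r : ℕ} (f : Fin r → R) (x : M) : Prop :=
  ∀ p : MvPolynomial (Fin r) k, aeval f p • x = 0 → p = 0

omit [Module k M] [IsScalarTower k R M] in
theorem NonTors.algebraicIndependent {r : ℕ} {f : Fin r → R} {x : M} (hx : NonTors k f x) :
    AlgebraicIndependent k f := by
  rw [algebraicIndependent_iff]
  exact fun p hp => hx p (by rw [hp, zero_smul])

variable (k R M) in
/-- Spanning by monomials in `f`. -/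
def Spans {r : ℕ} (f : Fin r → R) (X : Finset M) : Prop :=
  Submodule.span k {y : M | ∃ (a : Fin r → ℕ), ∃ x ∈ X, y = (∏ i, f i ^ a i) • x} = ⊤

theorem Spans.nonTors_or_supportDim_lt {r : ℕ} {f : Fin r → R} {X : Finset M}
    (hX : Spans k R M f X) :
    Module.supportDim R M ≤ (r : WithBot ℕ∞) ∧
      ((∃ x ∈ X, NonTors k f x) ∨ Module.supportDim R M < (r : WithBot ℕ∞)) := by
  classical
  let P := MvPolynomial (Fin r) k
  let _ : Algebra P R := (aeval (R := k) f).toRingHom.toAlgebra
  let _ : Module P M := Module.compHom M (algebraMap P R)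
  have : IsScalarTower P R M := ⟨fun p a x => by rw [Algebra.smul_def, mul_smul]; rfl⟩
  have hsm : ∀ (p : P) (x : M), p • x = aeval (R := k) f p • x := fun _ _ => rfl
  have : Module.Finite P M := by
    refine ⟨⟨X, ?_⟩⟩
    rw [eq_top_iff]
    rintro y -
    have hy : y ∈ Submodule.span k _ := hX ▸ (Submodule.mem_top : y ∈ ⊤)
    induction hy using Submodule.span_induction with
    | mem y hy =>
      obtain ⟨a, x, hx, rfl⟩ := hy
      rw [show (∏ i, f i ^ a i) • x = (∏ i, (MvPolynomial.X i : P) ^ a i) • x by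
        rw [hsm]; simp [P]]
      exact Submodule.smul_mem _ _ (Submodule.subset_span hx)
    | zero => exact zero_mem _
    | add a b _ _ ha hb => exact add_mem ha hb
    | smul c y _ hy =>
      rw [show c • y = (C c : P) • y by rw [hsm]; simp [P]]
      exact Submodule.smul_mem _ _ hy
  have hdimP : ringKrullDim P = (r : WithBot ℕ∞) := by
    simp [P, MvPolynomial.ringKrullDim_of_isNoetherianRing, ringKrullDim_eq_zero_of_field]
  rw [supportDim_eq_of_finite (A := P) (T := R) (P := M)]
  refine ⟨(ringKrullDim_quotient_le _).trans hdimP.le, ?_⟩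
  by_cases hex : ∃ x ∈ X, NonTors k f x
  · exact Or.inl hex
  right
  simp only [NonTors] at hex
  push Not at hex
  choose q hq hq0 using hex
  set Q : P := ∏ x ∈ X.attach, q x.1 x.2
  have hQ0 : Q ≠ 0 := Finset.prod_ne_zero_iff.2 fun x _ => hq0 x.1 x.2
  have hQ : Q ∈ Module.annihilator P M := by
    rw [Module.mem_annihilator]
    intro y
    have hy : y ∈ Submodule.span k _ := hX ▸ (Submodule.mem_top : y ∈ ⊤)
    induction hy using Submodule.span_induction with
    | mem y hy =>
      obtain ⟨a, x, hx, rfl⟩ := hy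
      obtain ⟨c, hc⟩ : q x hx ∣ Q := Finset.dvd_prod_of_mem (fun z : {z // z ∈ X} => q z.1 z.2)
        (Finset.mem_attach X ⟨x, hx⟩)
      rw [hsm, hc, map_mul, smul_comm, mul_comm, mul_smul, hq x hx, smul_zero, smul_zero]
    | zero => rw [smul_zero]
    | add a b _ _ ha hb => rw [smul_add, ha, hb, add_zero]
    | smul c y _ hy => rw [hsm, smul_comm, ← hsm, hy, smul_zero]
  have h2 := ringKrullDim_succ_le_of_surjective (Ideal.Quotient.mk (Module.annihilator P M))
    Ideal.Quotient.mk_surjective (r := Q) (mem_nonZeroDivisors_of_ne_zero hQ0)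
    (Ideal.Quotient.eq_zero_iff_mem.2 hQ)
  rw [hdimP] at h2
  generalize ringKrullDim (P ⧸ Module.annihilator P M) = a at h2 ⊢
  induction a with
  | bot => exact WithBot.bot_lt_coe _
  | coe a =>
    induction a with
    | top =>
      have h3 : ((⊤ : ℕ∞) + 1 : ℕ∞) ≤ (r : ℕ∞) := WithBot.coe_le_coe.1 h2
      rw [top_add, top_le_iff] at h3
      exact absurd h3 (ENat.natCast_ne_top r)
    | coe a => norm_cast at h2 ⊢

theorem IsStd.exists_dim_bound [Algebra.FiniteType k R] :
    ∃ n : ℕ, ∀ l : LTSeries (PrimeSpectrum R), l.length ≤ n := by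
  obtain ⟨n, g, hg⟩ := Algebra.FiniteType.iff_quotient_mvPolynomial''.1 (inferInstance : Algebra.FiniteType k R)
  refine ⟨n, fun l => ?_⟩
  have h := (Order.LTSeries.length_le_krullDim l).trans (ringKrullDim_le_of_surjective g.toRingHom hg)
  rw [MvPolynomial.ringKrullDim_of_isNoetherianRing, ringKrullDim_eq_zero_of_field] at h
  simpa using h

/-- Parameters of a finitely generated graded module. -/
theorem exists_moduleParams [Algebra.FiniteType k R] (hA : IsStd 𝒜) [Module.Finite R M] (m : ℕ)
    (hdim : ∀ l : LTSeries (PrimeSpectrum R), Module.annihilator R M ≤ l.head.asIdeal →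
      l.last.asIdeal ≤ pos 𝒜 → l.length ≤ m) :
    ∃ D : ℤ, 0 < D ∧ ∀ t : ℕ, 0 < t → ∃ (f : Fin m → R) (X : Finset M),
      (∀ i, f i ∈ 𝒜 (D * t)) ∧ (∀ x ∈ X, ∃ n, x ∈ ℳ n) ∧ Spans k R M f X := by
  classical
  rcases subsingleton_or_nontrivial R with hR | hR
  · exact ⟨1, one_pos, fun t _ => ⟨fun _ => 0, ∅, fun _ => zero_mem _, by simp,
      have := Module.subsingleton R M; Subsingleton.elim _ _⟩⟩
  have : IsNoetherianRing R := Algebra.FiniteType.isNoetherianRing k R
  set I := Module.annihilator R M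
  have hI : I.IsHomogeneous 𝒜 := isHomogeneous_annihilator (ℳ := ℳ)
  obtain ⟨f₀, e, he, hrad⟩ := hA.exists_params m I hI hdim
  have hDpos : 0 < ∏ i, e i := Finset.prod_pos fun i _ => (he i).1
  refine ⟨∏ i, e i, hDpos, fun t ht => ?_⟩
  let w : Fin m → ℕ := fun i => (∏ j ∈ Finset.univ.erase i, e j).toNat * t
  have hw : ∀ i, (w i : ℤ) * e i = (∏ j, e j) * t := fun i => by
    have hp : 0 < ∏ j ∈ Finset.univ.erase i, e j := Finset.prod_pos fun j _ => (he j).1
    rw [← Finset.prod_erase_mul _ _ (Finset.mem_univ i)]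
    simp only [w, Nat.cast_mul, Int.toNat_of_nonneg hp.le]
    ring
  let f : Fin m → R := fun i => f₀ i ^ w i
  have hfmem : ∀ i, f i ∈ 𝒜 ((∏ j, e j) * t) := fun i => by
    have := SetLike.pow_mem_graded (w i) (he i).2
    rwa [nsmul_eq_mul, hw i] at this
  have hrad' : pos 𝒜 ≤ (I ⊔ Ideal.span (Set.range f)).radical := by
    refine hrad.trans ?_
    rw [Ideal.radical_le_radical_iff, sup_le_iff, Ideal.span_le]
    refine ⟨le_sup_left.trans Ideal.le_radical, ?_⟩
    rintro _ ⟨i, rfl⟩
    exact ⟨w i, Ideal.mem_sup_right (Ideal.subset_span ⟨i, rfl⟩)⟩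
  obtain ⟨G, hG, hspan⟩ := hA.exists_spanning_sup hI f (mul_pos hDpos (by exact_mod_cast ht)) hfmem hrad'
  obtain ⟨Y, hY⟩ := Module.finite_def.1 (inferInstance : Module.Finite R M)
  let Y' : Finset M := Y.biUnion fun y => (decompose ℳ y).support.image fun n => (decompose ℳ y n : M)
  refine ⟨f, (G ×ˢ Y').image fun z => z.1 • z.2, hfmem, fun x hx => ?_, ?_⟩
  · simp only [Y', Finset.mem_image, Finset.mem_product, Finset.mem_biUnion] at hx
    obtain ⟨⟨g, z⟩, ⟨hg, y, -, n, -, rfl⟩, rfl⟩ := hx
    obtain ⟨i, hi⟩ := hG g hg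
    exact ⟨i + n, SetLike.GradedSMul.smul_mem hi (decompose ℳ y n).2⟩
  rw [Spans, eq_top_iff]
  set V := Submodule.span k {y : M | ∃ (a : Fin m → ℕ),
    ∃ x ∈ (G ×ˢ Y').image (fun z => z.1 • z.2), y = (∏ i, f i ^ a i) • x}
  have hV : ∀ (r : R), ∀ z ∈ Y', r • z ∈ V := by
    intro r z hz
    obtain ⟨v, hv, i, hi, rfl⟩ := Submodule.mem_sup.1 (hspan ▸ (Submodule.mem_top : r ∈ ⊤))
    rw [add_smul, (Module.mem_annihilator.1 hi) z, add_zero]
    clear hi i
    induction hv using Submodule.span_induction with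
    | mem v hv =>
      obtain ⟨a, g, hg, rfl⟩ := hv
      exact Submodule.subset_span ⟨a, g • z, Finset.mem_image.2 ⟨(g, z), Finset.mem_product.2 ⟨hg, hz⟩, rfl⟩,
        mul_smul _ _ _⟩
    | zero => rw [zero_smul]; exact zero_mem _
    | add a b _ _ ha hb => rw [add_smul]; exact add_mem ha hb
    | smul c v _ hv => rw [smul_assoc]; exact V.smul_mem c hv
  rintro y -
  have hy : y ∈ Submodule.span R (Y : Set M) := hY ▸ Submodule.mem_top
  suffices h : ∀ r : R, r • y ∈ V by simpa using h 1
  induction hy using Submodule.span_induction with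
  | mem y hy =>
    intro r
    rw [← DirectSum.sum_support_decompose ℳ y, Finset.smul_sum]
    exact V.sum_mem fun n hn => hV r _ (Finset.mem_biUnion.2 ⟨y, hy, Finset.mem_image.2 ⟨n, hn, rfl⟩⟩)
  | zero => intro r; rw [smul_zero]; exact zero_mem _
  | add a b _ _ ha hb => intro r; rw [smul_add]; exact add_mem (ha r) (hb r)
  | smul s y _ hy => intro r; rw [smul_smul]; exact hy (r * s)

omit [Module k M] [IsScalarTower k R M] in
include 𝒜 in
/-- Non-torsion elements propagate upwards in standard graded rings. -/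
theorem exists_nonTors_step {m : ℕ} {D : ℤ} (hD : 0 < D) {f : Fin (m + 1) → R}
    (hf : ∀ i, f i ∈ 𝒜 D) (hstd : pos 𝒜 ≤ Ideal.span ((𝒜 1 : Submodule k R) : Set R))
    {x : M} {n : ℤ} (hx : x ∈ ℳ n) (hnt : NonTors k f x) :
    ∃ y ∈ ℳ (n + 1), NonTors k f y := by
  by_contra hcon
  push Not at hcon
  let J : Ideal R :=
    { carrier := {a | ∃ p : MvPolynomial (Fin (m + 1)) k, p ≠ 0 ∧ (aeval f p * a) • x = 0}
      add_mem' := by
        rintro a b ⟨p, hp, hpa⟩ ⟨q, hq, hqb⟩
        refine ⟨p * q, mul_ne_zero hp hq, ?_⟩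
        rw [map_mul, mul_add, add_smul, show aeval f p * aeval f q * a = aeval f q * (aeval f p * a) by ring,
          mul_assoc, mul_smul _ (aeval f p * a), hpa, mul_smul _ (aeval f q * b), hqb, smul_zero, smul_zero, add_zero]
      zero_mem' := ⟨1, one_ne_zero, by simp⟩
      smul_mem' := by
        rintro c a ⟨p, hp, hpa⟩
        exact ⟨p, hp, by rw [smul_eq_mul, mul_left_comm, mul_smul, hpa, smul_zero]⟩ }
  have hle : Ideal.span ((𝒜 1 : Submodule k R) : Set R) ≤ J := by
    rw [Ideal.span_le]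
    intro a ha
    have hax : a • x ∈ ℳ (n + 1) := by
      have := SetLike.GradedSMul.smul_mem (A := 𝒜) (B := ℳ) ha hx
      rwa [vadd_eq_add, add_comm] at this
    have hnt' := hcon _ hax
    simp only [NonTors] at hnt'
    push Not at hnt'
    obtain ⟨p, hp, hp0⟩ := hnt'
    exact ⟨p, hp0, by rw [mul_smul]; exact hp⟩
  obtain ⟨p, hp, hpa⟩ := hle (hstd (mem_pos hD (hf 0)))
  refine mul_ne_zero hp (X_ne_zero (R := k) (0 : Fin (m + 1))) (hnt _ ?_)
  rw [map_mul, aeval_X]; exact hpa

end Groth.Agent.SegreDim
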