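import Groth.Agent.SegreDim.Module
import Groth.Prelude.Def_GrSeg

/-! Segre products of graded modules. -/

namespace Groth.Agent.SegreDim

open DirectSum TensorProduct MvPolynomial

universe u

variable {k : Type u} [Field k]
  {R : Type u} [CommRing R] [Algebra k R] {𝒜 : ℤ → Submodule k R} [GradedAlgebra 𝒜]
  {S : Type u} [CommRing S] [Algebra k S] {ℬ : ℤ → Submodule k S} [GradedAlgebra ℬ]
  {M : Type u} [AddCommGroup M] [Module R M] [Module k M] [IsScalarTower k R M]
  {ℳ : ℤ → AddSubgroup M} [DirectSum.Decomposition ℳ] [SetLike.GradedSMul 𝒜 ℳ]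
  {N : Type u} [AddCommGroup N] [Module S N] [Module k N] [IsScalarTower k S N]
  {𝒩 : ℤ → AddSubgroup N} [DirectSum.Decomposition 𝒩] [SetLike.GradedSMul ℬ 𝒩]

variable (𝒜 ℬ ℳ 𝒩) in
/-- The linear projection onto degree `n`. -/
noncomputable def projM (n : ℤ) : M →ₗ[k] M where
  toFun x := (decompose ℳ x n : M)
  map_add' a b := by simp
  map_smul' c x := proj_ksmul (𝒜 := 𝒜) c x n

theorem projM_apply (n : ℤ) (x : M) : projM (k := k) 𝒜 ℳ n x = (decompose ℳ x n : M) := rfl

variable (𝒜 ℬ ℳ 𝒩) in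
/-- Half of the diagonal projection. -/
noncomputable def diagHalf : M →+ (N →ₗ[k] M ⊗[k] N) :=
  (DirectSum.toAddMonoid fun n : ℤ =>
    (((LinearMap.lcomp k (M ⊗[k] N) (projM (k := k) ℬ 𝒩 n)).comp
      (TensorProduct.mk k M N)).toAddMonoidHom).comp (ℳ n).subtype).comp
        (DirectSum.decomposeAddEquiv ℳ).toAddMonoidHom

theorem diagHalf_apply {n : ℤ} {x : M} (hx : x ∈ ℳ n) (y : N) :
    diagHalf (k := k) ℬ ℳ 𝒩 x y = x ⊗ₜ[k] (decompose 𝒩 y n : N) := by
  rw [diagHalf, AddMonoidHom.comp_apply,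
    show (decomposeAddEquiv ℳ).toAddMonoidHom x = decompose ℳ x from rfl,
    decompose_of_mem ℳ hx, DirectSum.toAddMonoid_of]
  rfl

variable (𝒜 ℬ ℳ 𝒩) in
/-- The projection onto diagonal bidegrees. -/
noncomputable def diagProjM : M ⊗[k] N →ₗ[k] M ⊗[k] N :=
  TensorProduct.lift
    { toFun := diagHalf (k := k) ℬ ℳ 𝒩
      map_add' := map_add _
      map_smul' := fun c x => by
        induction x using DirectSum.Decomposition.inductionOn ℳ with
        | zero => simp
        | add a b ha hb => rw [smul_add, map_add, ha, hb, map_add, smul_add]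
        | @homogeneous j a =>
          refine LinearMap.ext fun y => ?_
          rw [RingHom.id_apply, LinearMap.smul_apply, diagHalf_apply (ksmul_mem (𝒜 := 𝒜) a.2 c),
            diagHalf_apply a.2, smul_tmul'] }

theorem diagProjM_tmul {n : ℤ} {x : M} (hx : x ∈ ℳ n) (y : N) :
    diagProjM (k := k) 𝒜 ℬ ℳ 𝒩 (x ⊗ₜ[k] y) = x ⊗ₜ[k] (decompose 𝒩 y n : N) := by
  rw [diagProjM, TensorProduct.lift.tmul]
  exact diagHalf_apply hx y

theorem diagProjM_act {n : ℤ} {t : R ⊗[k] S} (ht : t ∈ diag 𝒜 ℬ n) (z : M ⊗[k] N) :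
    diagProjM (k := k) 𝒜 ℬ ℳ 𝒩 (GrSeg.act k R S M N t z) =
      GrSeg.act k R S M N t (diagProjM (k := k) 𝒜 ℬ ℳ 𝒩 z) := by
  obtain ⟨a, ha, b, hb, rfl⟩ := ht
  induction z using TensorProduct.induction_on with
  | zero => simp
  | add x y hx hy => simp only [map_add, hx, hy]
  | tmul c d =>
    induction c using DirectSum.Decomposition.inductionOn ℳ with
    | zero => simp
    | add x y hx hy => simp only [add_tmul, map_add, hx, hy]
    | @homogeneous i c =>
      have hac : a • (c : M) ∈ ℳ (n + i) := SetLike.GradedSMul.smul_mem ha c.2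
      rw [GrSeg.act_tmul, diagProjM_tmul hac, diagProjM_tmul c.2, GrSeg.act_tmul,
        proj_smulM hb, show n + i - n = i by ring]

variable {T : Type u} [CommRing T] [Algebra k T] {𝒯 : ℤ → Submodule k T} [GradedAlgebra 𝒯]
  (ψ : T →ₐ[k] R ⊗[k] S)
  {P : Type u} [AddCommGroup P] [Module T P] [Module k P] [IsScalarTower k T P]
  {𝒬 : ℤ → AddSubgroup P} [DirectSum.Decomposition 𝒬]
  (φ : P →ₗ[k] M ⊗[k] N)
  (hT : GrSeg.IsSegreRing 𝒜 ℬ 𝒯 ψ) (hP : GrSeg.IsSegreMod ψ ℳ 𝒩 𝒬 φ)

include hT in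
theorem act_diagProjM (t : T) (z : M ⊗[k] N) :
    diagProjM (k := k) 𝒜 ℬ ℳ 𝒩 (GrSeg.act k R S M N (ψ t) z) =
      GrSeg.act k R S M N (ψ t) (diagProjM (k := k) 𝒜 ℬ ℳ 𝒩 z) := by
  have hmem := range_le_span (𝒯 := 𝒯) ψ hT.2 t
  generalize ψ t = y at hmem ⊢
  induction hmem using Submodule.span_induction with
  | mem x hx =>
    obtain ⟨n, hn⟩ := Set.mem_iUnion.1 hx
    exact diagProjM_act hn z
  | zero => simp
  | add x y _ _ hx hy => simp only [map_add, LinearMap.add_apply, hx, hy]
  | smul c x _ hx => simp only [map_smul, LinearMap.smul_apply, hx]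

include hP in
theorem diagProjM_map (p : P) : diagProjM (k := k) 𝒜 ℬ ℳ 𝒩 (φ p) = φ p := by
  induction p using DirectSum.Decomposition.inductionOn 𝒬 with
  | zero => simp
  | add a b ha hb => simp only [map_add, ha, hb]
  | @homogeneous n a =>
    have h : φ a ∈ (GrSeg.segrePiece k ℳ 𝒩 n : Set (M ⊗[k] N)) :=
      hP.image_piece n ▸ Set.mem_image_of_mem φ a.2
    rw [SetLike.mem_coe, GrSeg.segrePiece] at h
    generalize φ (a : P) = y at h
    induction h using Submodule.span_induction with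
    | mem x hx =>
      obtain ⟨u, hu, v, hv, rfl⟩ := hx
      rw [diagProjM_tmul hu, decompose_of_mem_same 𝒩 hv]
    | zero => simp
    | add x y _ _ hx hy => simp only [map_add, hx, hy]
    | smul c x _ hx => simp only [map_smul, hx]

include hP in
theorem diagProjM_mem_range (z : M ⊗[k] N) : ∃ p, φ p = diagProjM (k := k) 𝒜 ℬ ℳ 𝒩 z := by
  induction z using TensorProduct.induction_on with
  | zero => exact ⟨0, by simp⟩
  | add x y hx hy =>
    obtain ⟨p, hp⟩ := hx; obtain ⟨q, hq⟩ := hy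
    exact ⟨p + q, by simp [hp, hq]⟩
  | tmul c d =>
    induction c using DirectSum.Decomposition.inductionOn ℳ with
    | zero => exact ⟨0, by simp⟩
    | add x y hx hy =>
      obtain ⟨p, hp⟩ := hx; obtain ⟨q, hq⟩ := hy
      exact ⟨p + q, by simp [hp, hq, add_tmul]⟩
    | @homogeneous i c =>
      rw [diagProjM_tmul c.2]
      have h : (c : M) ⊗ₜ[k] (decompose 𝒩 d i : N) ∈ φ '' (𝒬 i : Set P) := by
        rw [hP.image_piece i]
        exact Submodule.subset_span ⟨c, c.2, _, (decompose 𝒩 d i).2, rfl⟩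
      obtain ⟨p, -, hp⟩ := h
      exact ⟨p, hp⟩

include hP in
theorem exists_retraction : ∃ w : M ⊗[k] N →ₗ[k] P,
    ∀ z, φ (w z) = diagProjM (k := k) 𝒜 ℬ ℳ 𝒩 z := by
  refine ⟨(LinearEquiv.ofInjective φ hP.injective).symm.toLinearMap ∘ₗ
    (LinearMap.codRestrict (LinearMap.range φ) (diagProjM (k := k) 𝒜 ℬ ℳ 𝒩)
      (fun z => LinearMap.mem_range.2 (diagProjM_mem_range ψ φ hP z))), fun z => ?_⟩
  rw [LinearMap.comp_apply, LinearEquiv.coe_coe, ← LinearEquiv.ofInjective_apply (f := φ) (h := hP.injective),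
    LinearEquiv.apply_symm_apply]
  rfl

include hT hP in
/-- Finiteness over the algebra of `f i ⊗ g j`. -/
theorem exists_finite_adjoin {r s : ℕ} {D : ℤ} (hD : 0 < D) {f : Fin r → R} {g : Fin s → S}
    (hf : ∀ i, f i ∈ 𝒜 D) (hg : ∀ j, g j ∈ ℬ D) {X : Finset M} {Y : Finset N}
    (hX : ∀ x ∈ X, ∃ n, x ∈ ℳ n) (hY : ∀ y ∈ Y, ∃ n, y ∈ 𝒩 n)
    (hXs : Spans k R M f X) (hYs : Spans k S N g Y) :
    ∃ z : Fin r × Fin s → T, (∀ p, ψ (z p) = f p.1 ⊗ₜ[k] g p.2) ∧
      Module.Finite (Algebra.adjoin k (Set.range z)) P := by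
  classical
  obtain ⟨w, hw⟩ := exists_retraction (𝒜 := 𝒜) (ℬ := ℬ) ψ φ hP
  choose z hz using fun p : Fin r × Fin s =>
    mem_range_of_diag (𝒯 := 𝒯) ψ hT.2 (x := f p.1 ⊗ₜ[k] g p.2) ⟨_, hf p.1, _, hg p.2, rfl⟩
  refine ⟨z, hz, ?_⟩
  set U := Algebra.adjoin k (Set.range z)
  choose dM hdM using hX
  choose dN hdN using hY
  let B : ℕ := (∑ m ∈ X.attach, (dM m.1 m.2).natAbs) + ∑ n ∈ Y.attach, (dN n.1 n.2).natAbs
  let W : Finset P := ((((Finset.univ : Finset (Fin r → Fin (B + 1))) ×ˢ
    (Finset.univ : Finset (Fin s → Fin (B + 1)))) ×ˢ X) ×ˢ Y).image fun x =>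
      w (((∏ i, f i ^ (x.1.1.1 i : ℕ)) • x.1.2) ⊗ₜ[k] ((∏ j, g j ^ (x.1.1.2 j : ℕ)) • x.2))
  set Q := Submodule.span U (W : Set P)
  have hmon : ∀ (K : ℕ) (a : Fin r → ℕ) (b : Fin s → ℕ), ∑ i, a i = K →
      ∀ m ∈ X, ∀ n ∈ Y, w (((∏ i, f i ^ a i) • m) ⊗ₜ[k] ((∏ j, g j ^ b j) • n)) ∈ Q := by
    intro K
    induction K using Nat.strong_induction_on with
    | _ K ih =>
    intro a b hK m hm n hn
    have hamem : (∏ i, f i ^ a i) • m ∈ ℳ (D * (∑ i, a i : ℕ) + dM m hm) := by
      refine SetLike.GradedSMul.smul_mem (A := 𝒜) (B := ℳ) ?_ (hdM m hm)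
      have := SetLike.prod_pow_mem_graded 𝒜 (fun _ : Fin r => D) f a (F := Finset.univ)
        (fun i _ => hf i)
      convert this using 2
      rw [Nat.cast_sum, Finset.mul_sum]
      exact Finset.sum_congr rfl fun i _ => by rw [nsmul_eq_mul, mul_comm]
    have hbmem : (∏ j, g j ^ b j) • n ∈ 𝒩 (D * (∑ j, b j : ℕ) + dN n hn) := by
      refine SetLike.GradedSMul.smul_mem (A := ℬ) (B := 𝒩) ?_ (hdN n hn)
      have := SetLike.prod_pow_mem_graded ℬ (fun _ : Fin s => D) g b (F := Finset.univ)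
        (fun i _ => hg i)
      convert this using 2
      rw [Nat.cast_sum, Finset.mul_sum]
      exact Finset.sum_congr rfl fun i _ => by rw [nsmul_eq_mul, mul_comm]
    by_cases hne : D * (∑ i, a i : ℕ) + dM m hm = D * (∑ j, b j : ℕ) + dN n hn
    swap
    · have h0 : w (((∏ i, f i ^ a i) • m) ⊗ₜ[k] ((∏ j, g j ^ b j) • n)) = 0 := hP.injective (by
        rw [hw, diagProjM_tmul hamem, decompose_of_mem_ne 𝒩 hbmem (Ne.symm hne), tmul_zero, map_zero])
      rw [h0]; exact zero_mem _
    by_cases hsmall : (∀ i, a i = 0) ∨ (∀ j, b j = 0)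
    · have hM' : (dM m hm).natAbs ≤ ∑ m ∈ X.attach, (dM m.1 m.2).natAbs :=
        Finset.single_le_sum (f := fun m : {x // x ∈ X} => (dM m.1 m.2).natAbs)
          (fun _ _ => Nat.zero_le _) (Finset.mem_attach X ⟨m, hm⟩)
      have hN' : (dN n hn).natAbs ≤ ∑ n ∈ Y.attach, (dN n.1 n.2).natAbs :=
        Finset.single_le_sum (f := fun m : {x // x ∈ Y} => (dN m.1 m.2).natAbs)
          (fun _ _ => Nat.zero_le _) (Finset.mem_attach Y ⟨n, hn⟩)
      have hbound : (∀ i, a i < B + 1) ∧ (∀ j, b j < B + 1) := by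
        constructor
        · intro i
          rcases hsmall with h0 | h0
          · rw [h0 i]; omega
          · have hle : a i ≤ ∑ i, a i := Finset.single_le_sum (fun _ _ => Nat.zero_le _) (Finset.mem_univ i)
            have hb0 : ∑ j, b j = 0 := Finset.sum_eq_zero fun j _ => h0 j
            rw [hb0] at hne
            have h3 : ((∑ i, a i : ℕ) : ℤ) ≤ D * ((∑ i, a i : ℕ) : ℤ) :=
              le_mul_of_one_le_left (Int.natCast_nonneg _) hD
            simp only [Nat.cast_zero, mul_zero, zero_add] at hne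
            simp only [B]
            omega
        · intro j
          rcases hsmall with h0 | h0
          · have hle : b j ≤ ∑ j, b j := Finset.single_le_sum (fun _ _ => Nat.zero_le _) (Finset.mem_univ j)
            have ha0 : ∑ i, a i = 0 := Finset.sum_eq_zero fun i _ => h0 i
            rw [ha0] at hne
            have h3 : ((∑ j, b j : ℕ) : ℤ) ≤ D * ((∑ j, b j : ℕ) : ℤ) :=
              le_mul_of_one_le_left (Int.natCast_nonneg _) hD
            simp only [Nat.cast_zero, mul_zero, zero_add] at hne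
            simp only [B]
            omega
          · rw [h0 j]; omega
      refine Submodule.subset_span ?_
      simp only [W, Finset.coe_image, Set.mem_image, Finset.mem_coe]
      exact ⟨(((fun i => ⟨a i, hbound.1 i⟩, fun j => ⟨b j, hbound.2 j⟩), m), n), by simp [hm, hn], rfl⟩
    · push Not at hsmall
      obtain ⟨⟨i, hi⟩, ⟨j, hj⟩⟩ := hsmall
      set a' := Function.update a i (a i - 1) with ha'
      set b' := Function.update b j (b j - 1) with hb'
      have hpa : ∏ l, f l ^ a l = f i * ∏ l, f l ^ a' l := by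
        rw [← Finset.mul_prod_erase _ _ (Finset.mem_univ i),
          ← Finset.mul_prod_erase (Finset.univ) (fun l => f l ^ a' l) (Finset.mem_univ i), ← mul_assoc]
        congr 1
        · rw [ha', Function.update_self, ← pow_succ']; congr 1; omega
        · exact Finset.prod_congr rfl fun l hl => by
            rw [ha', Function.update_of_ne (Finset.ne_of_mem_erase hl)]
      have hpb : ∏ l, g l ^ b l = g j * ∏ l, g l ^ b' l := by
        rw [← Finset.mul_prod_erase _ _ (Finset.mem_univ j),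
          ← Finset.mul_prod_erase (Finset.univ) (fun l => g l ^ b' l) (Finset.mem_univ j), ← mul_assoc]
        congr 1
        · rw [hb', Function.update_self, ← pow_succ']; congr 1; omega
        · exact Finset.prod_congr rfl fun l hl => by
            rw [hb', Function.update_of_ne (Finset.ne_of_mem_erase hl)]
      have hlt : ∑ l, a' l < K := by
        rw [← hK]
        refine Finset.sum_lt_sum (fun l _ => ?_) ⟨i, Finset.mem_univ i, ?_⟩
        · rw [ha', Function.update_apply]; split_ifs with h <;> simp_all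
        · rw [ha', Function.update_self]; omega
      have heq : w (((∏ i, f i ^ a i) • m) ⊗ₜ[k] ((∏ j, g j ^ b j) • n)) =
          z (i, j) • w (((∏ l, f l ^ a' l) • m) ⊗ₜ[k] ((∏ l, g l ^ b' l) • n)) := hP.injective (by
        rw [hw, hP.map_smul, hw, ← act_diagProjM (𝒯 := 𝒯) ψ hT, hz, GrSeg.act_tmul,
          hpa, hpb, mul_smul, mul_smul])
      rw [heq]
      exact Submodule.smul_mem Q (⟨z (i, j), Algebra.subset_adjoin ⟨(i, j), rfl⟩⟩ : U)
        (ih _ hlt a' b' rfl m hm n hn)
  have hQ : ∀ x : M ⊗[k] N, w x ∈ Q := by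
    intro x
    induction x using TensorProduct.induction_on with
    | zero => rw [map_zero]; exact zero_mem _
    | add x y hx hy => rw [map_add]; exact add_mem hx hy
    | tmul c d =>
      have hc : c ∈ Submodule.span k _ := hXs ▸ (Submodule.mem_top : c ∈ ⊤)
      have hd : d ∈ Submodule.span k _ := hYs ▸ (Submodule.mem_top : d ∈ ⊤)
      induction hc using Submodule.span_induction with
      | mem c hc =>
        induction hd using Submodule.span_induction with
        | mem d hd =>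
          obtain ⟨a, m, hm, rfl⟩ := hc
          obtain ⟨b, n, hn, rfl⟩ := hd
          exact hmon _ a b rfl m hm n hn
        | zero => rw [tmul_zero, map_zero]; exact zero_mem _
        | add _ _ _ _ h1 h2 => rw [tmul_add, map_add]; exact add_mem h1 h2
        | smul q _ _ h1 => rw [tmul_smul, map_smul]; exact Submodule.smul_of_tower_mem _ q h1
      | zero => rw [zero_tmul, map_zero]; exact zero_mem _
      | add _ _ _ _ h1 h2 => rw [add_tmul, map_add]; exact add_mem h1 h2
      | smul q _ _ h1 => rw [← smul_tmul', map_smul]; exact Submodule.smul_of_tower_mem _ q h1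
  refine ⟨⟨W, ?_⟩⟩
  rw [eq_top_iff]
  intro p _
  have : w (φ p) = p := hP.injective (by rw [hw, diagProjM_map ψ φ hP])
  exact this ▸ hQ (φ p)

include hT hP in
/-- The dimension formula. -/
theorem supportDim_segreMod {r s : ℕ} {D : ℤ} (hD : 0 < D) {f : Fin (r + 1) → R} {g : Fin (s + 1) → S}
    (hf : ∀ i, f i ∈ 𝒜 D) (hg : ∀ j, g j ∈ ℬ D) {X : Finset M} {Y : Finset N}
    (hX : ∀ x ∈ X, ∃ n, x ∈ ℳ n) (hY : ∀ y ∈ Y, ∃ n, y ∈ 𝒩 n)
    (hXs : Spans k R M f X) (hYs : Spans k S N g Y)
    {l : ℤ} {x : M} (hx : x ∈ ℳ l) (hxn : NonTors k f x) {y : N} (hy : y ∈ 𝒩 l) (hyn : NonTors k g y) :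
    Module.supportDim T P = ((r + s + 1 : ℕ) : WithBot ℕ∞) := by
  obtain ⟨z, hz, hfin⟩ := exists_finite_adjoin ψ φ hT hP hD hf hg hX hY hXs hYs
  set U := Algebra.adjoin k (Set.range z)
  have hinj := tensorMap_injective (k := k) hxn.algebraicIndependent hyn.algebraicIndependent
  have himg : U.map ψ = (segreAlg k (r + 1) (s + 1)).map (tensorMap f g) := by
    rw [AlgHom.map_adjoin, segreAlg, AlgHom.map_adjoin, ← Set.range_comp, ← Set.range_comp]
    congr 1
    refine congrArg Set.range (funext fun p => ?_)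
    simp [hz, tensorMap, Algebra.TensorProduct.tmul_mul_tmul]
  have hann : Module.annihilator U P = ⊥ := by
    rw [eq_bot_iff]
    intro t ht
    rw [Module.mem_annihilator] at ht
    obtain ⟨v, -, hv⟩ : ψ (t : T) ∈ (segreAlg k (r + 1) (s + 1)).map (tensorMap f g) :=
      himg ▸ ⟨_, t.2, rfl⟩
    have hxy : x ⊗ₜ[k] y ∈ φ '' (𝒬 l : Set P) := by
      rw [hP.image_piece l]
      exact Submodule.subset_span ⟨x, hx, y, hy, rfl⟩
    obtain ⟨p, -, hp⟩ := hxy
    have h0 : GrSeg.act k R S M N (ψ (t : T)) (x ⊗ₜ[k] y) = 0 := by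
      rw [← hp, ← hP.map_smul]
      have := ht p
      rw [show (t : T) • p = t • p from rfl, this, map_zero]
    let μ : MvPolynomial (Fin (r + 1)) k ⊗[k] MvPolynomial (Fin (s + 1)) k →ₗ[k] M ⊗[k] N :=
      TensorProduct.map ((LinearMap.toSpanSingleton R M x).restrictScalars k ∘ₗ (aeval f).toLinearMap)
        ((LinearMap.toSpanSingleton S N y).restrictScalars k ∘ₗ (aeval g).toLinearMap)
    have hμ : Function.Injective μ := TensorProduct.map_injective_of_flat_flat (R := k) _ _
      ((injective_iff_map_eq_zero _).2 fun p hp => hxn p hp)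
      ((injective_iff_map_eq_zero _).2 fun p hp => hyn p hp)
    have hμeq : ∀ q, μ q = GrSeg.act k R S M N
        (Algebra.TensorProduct.map (aeval f) (aeval g) q) (x ⊗ₜ[k] y) := by
      intro q
      induction q using TensorProduct.induction_on with
      | zero => simp
      | add a b ha hb => simp only [map_add, LinearMap.add_apply, ha, hb]
      | tmul a b =>
        rw [Algebra.TensorProduct.map_tmul, GrSeg.act_tmul]
        rfl
    set e : MvPolynomial (Fin (r + 1) ⊕ Fin (s + 1)) k →ₐ[k]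
        MvPolynomial (Fin (r + 1)) k ⊗[k] MvPolynomial (Fin (s + 1)) k :=
      aeval (Sum.elim (fun i => (MvPolynomial.X i ⊗ₜ[k] (1 : MvPolynomial (Fin (s + 1)) k)))
        (fun j => (1 : MvPolynomial (Fin (r + 1)) k) ⊗ₜ[k] MvPolynomial.X j))
    have hv' : tensorMap f g v = Algebra.TensorProduct.map (aeval f) (aeval g) (e v) := rfl
    rw [← hv] at h0
    have h1 : e v = 0 := hμ (by rw [hμeq, map_zero, ← hv']; exact h0)
    have h2 : ψ (t : T) = 0 := by rw [← hv]; show tensorMap f g v = 0; rw [hv', h1, map_zero]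
    exact (Submodule.mem_bot _).2 (Subtype.ext (hT.1 (h2.trans (map_zero ψ).symm)))
  rw [supportDim_eq_of_finite (A := U) (T := T) (P := P), hann,
    ringKrullDim_eq_of_ringEquiv (RingEquiv.quotientBot U), ← dim_segreAlg k r s]
  exact ringKrullDim_eq_of_ringEquiv (((U.equivMapOfInjective ψ hT.1).trans
    (Subalgebra.equivOfEq _ _ himg)).trans
    ((segreAlg k (r + 1) (s + 1)).equivMapOfInjective (tensorMap f g) hinj).symm).toRingEquiv

end Groth.Agent.SegreDim
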